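import Groth.Agent.H02CA.Adeq.Base
import Mathlib.LinearAlgebra.TensorProduct.Basis
import Mathlib.RingTheory.TensorProduct.Free
import Mathlib.RingTheory.MvPolynomial.Basic
import Mathlib.Algebra.MvPolynomial.CommRing
import Mathlib.Algebra.Polynomial.AlgebraMap
import Mathlib.RingTheory.Ideal.Quotient.Operations
import Mathlib.LinearAlgebra.TensorProduct.RightExactness

/-!
# Homogeneous transformations out of linearly adequate functors
-/

set_option autoImplicit false
set_option linter.style.haveILetI false

universe u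

open CategoryTheory Opposite Limits TensorProduct

namespace Groth.Agent.H02CA.Adq

open Adeq

variable {A : Type u} [CommRing A]

/-- The polynomial algebra over an algebra. -/
noncomputable abbrev polyOf (B : Alg A) : Alg A := algOf A (Polynomial B)

/-- The inclusion of constants. -/
noncomputable abbrev constOf (B : Alg A) : B ⟶ polyOf B :=
  CommAlgCat.ofHom (IsScalarTower.toAlgHom A B (Polynomial B))

/-- The coordinate of a tensor along a basis, functorially in the algebra. -/
lemma repr_rTensor {κ : Type (u + 1)} {P : Type (u + 1)} [AddCommGroup P] [Module A P]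
    (b : Module.Basis κ A P) {B B' : Type u} [CommRing B] [Algebra A B] [CommRing B'] [Algebra A B']
    (f : B →ₐ[A] B') (z : B ⊗[A] P) (k : κ) :
    (Algebra.TensorProduct.basis B' b).repr (f.toLinearMap.rTensor P z) k =
      f ((Algebra.TensorProduct.basis B b).repr z k) := by
  induction z using TensorProduct.induction_on with
  | zero => simp
  | tmul x m =>
    rw [LinearMap.rTensor_tmul, Algebra.TensorProduct.basis_repr_tmul,
      Algebra.TensorProduct.basis_repr_tmul]
    simp only [AlgHom.toLinearMap_apply, Finsupp.smul_apply, Finsupp.mapRange_apply, smul_eq_mul,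
      map_mul, AlgHom.commutes]
  | add x y hx hy => simp only [map_add, Finsupp.add_apply, hx, hy]

lemma rTensor_baseChange {P P' : Type (u + 1)} [AddCommGroup P] [Module A P] [AddCommGroup P'] [Module A P']
    (g : P →ₗ[A] P') {B B' : Type u} [CommRing B] [Algebra A B] [CommRing B'] [Algebra A B']
    (f : B →ₐ[A] B') (z : B ⊗[A] P) :
    f.toLinearMap.rTensor P' (g.baseChange B z) = g.baseChange B' (f.toLinearMap.rTensor P z) := by
  induction z using TensorProduct.induction_on with
  | zero => simp
  | tmul x m => simp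
  | add x y hx hy => simp only [map_add, hx, hy]

/-- A natural, homogeneous family of functions on a linearly adequate functor is given by a linear map. -/
theorem extend_homogeneous {P P' M : ModuleCat.{u + 1} A} [Module.Finite A P] [Module.Free A P]
    [Module.Free A P'] (φ₀ : P ⟶ P')
    (θ : ∀ B : Alg A, (kernel ((underline A).map φ₀)).obj (pt B) → (B : Type u) ⊗[A] M)
    (hnat : ∀ ⦃B B' : Alg A⦄ (f : B ⟶ B') (x : (kernel ((underline A).map φ₀)).obj (pt B)),
      θ B' ((kernel ((underline A).map φ₀)).map (ptHom f) x) = f.hom.toLinearMap.rTensor M (θ B x))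
    (hhom : ∀ (B : Alg A) (x : (kernel ((underline A).map φ₀)).obj (pt B)),
      θ (polyOf B) ((Polynomial.X : Polynomial B) •
          ((kernel ((underline A).map φ₀)).map (ptHom (constOf B)) x :
            (kernel ((underline A).map φ₀)).obj (pt (polyOf B)))) =
        (Polynomial.X : Polynomial B) • (constOf B).hom.toLinearMap.rTensor M (θ B x)) :
    ∃ g : P ⟶ M, ∀ (B : Alg A) (x : (kernel ((underline A).map φ₀)).obj (pt B)),
      θ B x = g.hom.baseChange B ((kernel.ι ((underline A).map φ₀)).app (pt B) x) := by
  classical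
  let L := kernel ((underline A).map φ₀)
  let ιL := kernel.ι ((underline A).map φ₀)
  let b₀ := Module.Free.chooseBasis A P
  let n : ℕ := Fintype.card (Module.Free.ChooseBasisIndex A P)
  let e : Module.Free.ChooseBasisIndex A P ≃ Fin n := Fintype.equivFin _
  let b : Module.Basis (Fin n) A P := b₀.reindex e
  let b' := Module.Free.chooseBasis A P'
  let S := MvPolynomial (Fin n) A
  let ℓ₀ : S ⊗[A] P := ∑ i, (MvPolynomial.X i : S) ⊗ₜ[A] b i
  let I : Ideal S := Ideal.span
    (Set.range fun k => (Algebra.TensorProduct.basis S b').repr (φ₀.hom.baseChange S ℓ₀) k)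
  let R : Alg A := algOf A (S ⧸ I)
  let q : S →ₐ[A] (S ⧸ I) := Ideal.Quotient.mkₐ A I
  have hq : φ₀.hom.baseChange (S ⧸ I) (q.toLinearMap.rTensor P ℓ₀) = 0 := by
    rw [← rTensor_baseChange]
    apply (Algebra.TensorProduct.basis (S ⧸ I) b').repr.injective
    rw [map_zero]
    ext k
    rw [repr_rTensor, Finsupp.zero_apply]
    exact Ideal.Quotient.eq_zero_iff_mem.2 (Ideal.subset_span ⟨k, rfl⟩)
  obtain ⟨ℓ, hℓ⟩ := mem_kernel ((underline A).map φ₀) R (tmk P R (q.toLinearMap.rTensor P ℓ₀)) hq
  obtain ⟨η, hη⟩ := LinearMap.rTensor_surjective (M : Type (u + 1)) (g := q.toLinearMap)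
    (Ideal.Quotient.mkₐ_surjective A I) (θ R ℓ)
  have key : ∀ (B : Alg A) (x : L.obj (pt B)) (c : Fin n → B),
      (ιL.app (pt B) x = tmk P B (∑ i, c i ⊗ₜ[A] b i)) →
      θ B x = (MvPolynomial.aeval c).toLinearMap.rTensor M η := by
    intro B x c hx
    have hf : (MvPolynomial.aeval c).toLinearMap.rTensor P ℓ₀ = ∑ i, c i ⊗ₜ[A] b i := by
      simp [ℓ₀]
    have hI : I ≤ RingHom.ker (MvPolynomial.aeval c).toRingHom := by
      rw [Ideal.span_le]
      rintro _ ⟨k, rfl⟩
      change (MvPolynomial.aeval c) _ = 0
      rw [← repr_rTensor, rTensor_baseChange, hf]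
      have hz : φ₀.hom.baseChange B (∑ i, c i ⊗ₜ[A] b i) = 0 := by
        have hz' := kernel_condition_apply ((underline A).map φ₀) B x
        rw [hx] at hz'
        exact hz'
      rw [hz, map_zero, Finsupp.zero_apply]
    let f : R ⟶ B := CommAlgCat.ofHom (Ideal.Quotient.liftₐ I (MvPolynomial.aeval c) hI)
    have hfq : f.hom.comp q = MvPolynomial.aeval c := Ideal.Quotient.liftₐ_comp _ _ _
    have hℓx : L.map (ptHom f) ℓ = x := by
      apply kernel_ι_injective ((underline A).map φ₀) B
      refine (nat_apply ιL f ℓ).trans ?_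
      rw [hℓ, hx]
      change f.hom.toLinearMap.rTensor P (q.toLinearMap.rTensor P ℓ₀) = _
      rw [← LinearMap.rTensor_comp_apply, ← AlgHom.comp_toLinearMap]
      exact (congrArg (fun h : S →ₐ[A] B => h.toLinearMap.rTensor P ℓ₀) hfq).trans hf
    rw [← hℓx, hnat, ← hη, ← LinearMap.rTensor_comp_apply, ← AlgHom.comp_toLinearMap]
    exact congrArg (fun h : S →ₐ[A] B => h.toLinearMap.rTensor M η) hfq
  let m : Fin n → M := fun i =>
    TensorProduct.lid A M ((MvPolynomial.lcoeff A (Finsupp.single i 1)).rTensor M η)
  refine ⟨ModuleCat.ofHom (b.constr A m), fun B x => ?_⟩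
  let c : Fin n → B := fun i =>
    (Algebra.TensorProduct.basis (B : Type u) b).repr (ιL.app (pt B) x : (B : Type u) ⊗[A] P) i
  have hc : (ιL.app (pt B) x : (B : Type u) ⊗[A] P) = ∑ i, c i ⊗ₜ[A] b i := by
    refine ((Algebra.TensorProduct.basis (B : Type u) b).sum_repr _).symm.trans ?_
    refine Finset.sum_congr rfl fun i _ => ?_
    rw [Algebra.TensorProduct.basis_apply, TensorProduct.smul_tmul', smul_eq_mul, mul_one]
  change θ B x = (b.constr A m).baseChange B (ιL.app (pt B) x : (B : Type u) ⊗[A] P)
  rw [hc]
  let c' : Fin n → polyOf B := fun i => Polynomial.C (c i) * Polynomial.X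
  have hx' : ιL.app (pt (polyOf B)) ((Polynomial.X : Polynomial B) •
      (L.map (ptHom (constOf B)) x : L.obj (pt (polyOf B)))) =
        tmk P (polyOf B) (∑ i, c' i ⊗ₜ[A] b i) := by
    refine ((ιL.app (pt (polyOf B))).hom.map_smul _ _).trans ?_
    refine Eq.trans (congrArg (fun z : (U A P).obj (pt (polyOf B)) => (Polynomial.X : Polynomial B) • z)
      ((nat_apply ιL (constOf B) x).trans (congrArg ((U A P).map (ptHom (constOf B))) hc))) ?_
    change (Polynomial.X : Polynomial B) •
      ((constOf B).hom.toLinearMap.rTensor P (∑ i, c i ⊗ₜ[A] b i)) = ∑ i, c' i ⊗ₜ[A] b i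
    rw [map_sum, Finset.smul_sum]
    refine Finset.sum_congr rfl fun i _ => ?_
    rw [LinearMap.rTensor_tmul, TensorProduct.smul_tmul']
    exact congrArg (fun r : Polynomial B => r ⊗ₜ[A] b i) (mul_comm _ _)
  have h := congrArg (((Polynomial.lcoeff (B : Type u) 1).restrictScalars A).rTensor M)
    ((key _ _ c' hx').symm.trans (hhom B x))
  have hr : ∀ z : (B : Type u) ⊗[A] M, ((Polynomial.lcoeff (B : Type u) 1).restrictScalars A).rTensor M
      ((Polynomial.X : Polynomial B) • (constOf B).hom.toLinearMap.rTensor M z) = z := by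
    intro z
    induction z using TensorProduct.induction_on with
    | zero => simp
    | tmul r y =>
      rw [LinearMap.rTensor_tmul, TensorProduct.smul_tmul', LinearMap.rTensor_tmul]
      simp
    | add y y' hy hy' => simp only [map_add, smul_add, hy, hy']
  rw [hr, ← LinearMap.rTensor_comp_apply] at h
  rw [← h]
  have hl : ((Polynomial.lcoeff (B : Type u) 1).restrictScalars A) ∘ₗ
      (MvPolynomial.aeval c').toLinearMap =
      ∑ i, (LinearMap.toSpanSingleton A (B : Type u) (c i)) ∘ₗ MvPolynomial.lcoeff A (Finsupp.single i 1) := by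
    apply (MvPolynomial.basisMonomials (Fin n) A).ext
    intro α
    simp only [MvPolynomial.coe_basisMonomials, LinearMap.coe_comp, Function.comp_apply,
      AlgHom.toLinearMap_apply, MvPolynomial.aeval_monomial, map_one, one_mul,
      LinearMap.restrictScalars_apply, Polynomial.lcoeff_apply, LinearMap.coe_sum, Finset.sum_apply,
      MvPolynomial.lcoeff_apply, MvPolynomial.coeff_monomial, LinearMap.toSpanSingleton_apply]
    rw [Finsupp.prod_fintype _ _ (by simp)]
    simp only [c', mul_pow, ← map_pow, Finset.prod_mul_distrib, ← map_prod, Finset.prod_pow_eq_pow_sum,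
      Polynomial.coeff_C_mul, Polynomial.coeff_X_pow]
    by_cases hα : ∃ i, α = Finsupp.single i 1
    · obtain ⟨j, rfl⟩ := hα
      refine Eq.trans ?_ (Finset.sum_eq_single j (fun i _ hij => ?_) (by simp)).symm
      · simp [Finsupp.single_apply, pow_ite, Finset.prod_ite_eq]
      · rw [if_neg (fun hh => hij ((Finsupp.single_left_injective one_ne_zero) hh).symm), zero_smul]
    · push_neg at hα
      rw [if_neg, mul_zero, eq_comm]
      · exact Finset.sum_eq_zero fun i _ => by rw [if_neg (hα i), zero_smul]
      · intro h1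
        obtain ⟨j, hj⟩ : ∃ j, α = Finsupp.single j 1 := by
          obtain ⟨j, hj⟩ : ∃ j, α j ≠ 0 := by
            by_contra hh
            push_neg at hh
            simp [hh] at h1
          refine ⟨j, Finsupp.ext fun i => ?_⟩
          have h2 := Finset.add_sum_erase (Finset.univ : Finset (Fin n)) (fun i => α i) (Finset.mem_univ j)
          rw [← h1] at h2
          by_cases hij : i = j
          · subst hij
            rw [Finsupp.single_eq_same]
            omega
          · rw [Finsupp.single_eq_of_ne hij]
            have h3 : α i ≤ ∑ i ∈ (Finset.univ : Finset (Fin n)).erase j, α i :=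
              Finset.single_le_sum (f := fun i => α i) (fun _ _ => Nat.zero_le _) (by simp [hij])
            omega
        exact hα j hj
  rw [hl]
  have hz : ∀ z : S ⊗[A] M,
      ((∑ i, (LinearMap.toSpanSingleton A (B : Type u) (c i)) ∘ₗ
        MvPolynomial.lcoeff A (Finsupp.single i 1)).rTensor M) z =
      ∑ i, c i ⊗ₜ[A] (TensorProduct.lid A M
        ((MvPolynomial.lcoeff A (Finsupp.single i 1)).rTensor M z)) := by
    intro z
    induction z using TensorProduct.induction_on with
    | zero => simp
    | tmul r y =>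
      simp [TensorProduct.sum_tmul, TensorProduct.smul_tmul]
    | add y y' hy hy' => simp only [map_add, hy, hy', TensorProduct.tmul_add, Finset.sum_add_distrib]
  rw [hz, map_sum]
  simp [m]

end Groth.Agent.H02CA.Adq
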