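import Groth.Agent.H02CA.Adeq.Lin
import Groth.Agent.H02CA.Adeq.Hom
import Mathlib.Algebra.DirectSum.Module
import Mathlib.CategoryTheory.Limits.Shapes.Products

/-!
# Kernels, cokernels and colimits of adequate functors
-/

set_option autoImplicit false
set_option linter.style.haveILetI false

universe u

open CategoryTheory Opposite Limits TensorProduct DirectSum

namespace Groth.Agent.H02CA.Adq

open Adeq

variable {A : Type u} [CommRing A]

/-- A morphism out of a linearly adequate functor into the functor of a module. -/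
theorem extend_hom {P P' M : ModuleCat.{u + 1} A} [Module.Finite A P] [Module.Free A P]
    [Module.Free A P'] (φ₀ : P ⟶ P') (φ : K φ₀ ⟶ U A M) :
    ∃ g : P ⟶ M, kernel.ι ((underline A).map φ₀) ≫ (underline A).map g = φ := by
  obtain ⟨g, hg⟩ := extend_homogeneous φ₀ (fun B x => φ.app (pt B) x)
    (fun B B' f x => nat_apply φ f x) (fun B x => by
      refine ((φ.app (pt (polyOf B))).hom.map_smul _ _).trans ?_
      exact congrArg (fun z : (U A M).obj (pt (polyOf B)) => (Polynomial.X : Polynomial B) • z)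
        (nat_apply φ (constOf B) x))
  exact ⟨g, hom_ext fun B x => (hg B x).symm⟩

lemma lTensor_sum {ι : Type (u + 1)} [DecidableEq ι] {M : ι → Type (u + 1)} [∀ i, AddCommGroup (M i)]
    [∀ i, Module A (M i)] (B : Alg A) (z : (B : Type u) ⊗[A] (⨁ i, M i)) :
    ∃ s : Finset ι, ∀ t : Finset ι, s ⊆ t →
      ∑ i ∈ t, (DirectSum.lof A ι M i).lTensor B ((DirectSum.component A ι M i).lTensor B z) = z := by
  classical
  induction z using TensorProduct.induction_on with
  | zero => exact ⟨∅, fun t _ => by simp⟩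
  | tmul b d =>
    refine ⟨DFinsupp.support d, fun t ht => ?_⟩
    simp only [LinearMap.lTensor_tmul, DirectSum.lof_eq_of]
    rw [← TensorProduct.tmul_sum]
    congr 1
    conv_rhs => rw [← DirectSum.sum_support_of d]
    refine (Finset.sum_subset ht fun i _ hi => ?_).symm
    rw [← DirectSum.apply_eq_component, DFinsupp.notMem_support_iff.1 hi, map_zero]
  | add x y hx hy =>
    obtain ⟨s, hs⟩ := hx
    obtain ⟨s', hs'⟩ := hy
    refine ⟨s ∪ s', fun t ht => ?_⟩
    simp only [map_add, Finset.sum_add_distrib, hs t (Finset.union_subset_left ht),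
      hs' t (Finset.union_subset_right ht)]

lemma toModule_lof' {ι : Type (u + 1)} [DecidableEq ι] (M : ι → ModuleCat.{u + 1} A) {N : Type (u + 1)}
    [AddCommGroup N] [Module A N] (f : ∀ i, M i →ₗ[A] N) (i : ι) (x : M i) :
    DirectSum.toModule A ι N f (DirectSum.lof A ι (fun i => M i) i x) = f i x :=
  DirectSum.toModule_lof (M := fun i => M i) A i x

lemma component_lof {ι : Type (u + 1)} [DecidableEq ι] (M : ι → ModuleCat.{u + 1} A) (i : ι) (x : M i) :
    DirectSum.component A ι (fun i => M i) i (DirectSum.lof A ι (fun i => M i) i x) = x :=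
  DirectSum.component.lof_self A (M := fun i => M i) i x

lemma component_lof_ne {ι : Type (u + 1)} [DecidableEq ι] (M : ι → ModuleCat.{u + 1} A) {i k : ι}
    (h : k ≠ i) (x : M k) :
    DirectSum.component A ι (fun i => M i) i (DirectSum.lof A ι (fun i => M i) k x) = 0 :=
  (DirectSum.component.of A (M := fun i => M i) i k x).trans (dif_neg h)

/-- The cokernel of a map from an adequate functor to the functor of a module. -/
theorem exists_coker {F : MVF A} (hF : adequate A F) {M : ModuleCat.{u + 1} A} (φ : F ⟶ U A M) :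
    ∃ (M' N' : ModuleCat.{u + 1} A) (j : M ⟶ M') (q : M' ⟶ N'),
      φ ≫ (underline A).map j = 0 ∧ (underline A).map j ≫ (underline A).map q = 0 ∧
      (∀ (B : Alg A) (m : (U A M).obj (pt B)), ((underline A).map j).app (pt B) m = 0 →
        ∃ x, φ.app (pt B) x = m) ∧
      (∀ (B : Alg A) (v : (U A M').obj (pt B)), ((underline A).map q).app (pt B) v = 0 →
        ∃ m, ((underline A).map j).app (pt B) m = v) := by
  classical
  choose P P' φ₀ h₁ h₂ h₃ h₄ ψ y hy using fun i : Σ B : Alg A, F.obj (pt B) => exists_lin hF i.1 i.2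
  have hg' : ∀ i, ∃ g : P i ⟶ M, kernel.ι ((underline A).map (φ₀ i)) ≫ (underline A).map g = ψ i ≫ φ :=
    fun i => by
      haveI := h₁ i; haveI := h₂ i; haveI := h₄ i
      exact extend_hom (φ₀ i) (ψ i ≫ φ)
  choose g hg using hg'
  let Φ : (⨁ i, P i) →ₗ[A] ⨁ i, P' i :=
    DirectSum.toModule A (Σ B : Alg A, F.obj (pt B)) _ fun i => DirectSum.lof A (Σ B : Alg A, F.obj (pt B)) (fun i => P' i) i ∘ₗ (φ₀ i).hom
  let γ : (⨁ i, P i) →ₗ[A] M := DirectSum.toModule A (Σ B : Alg A, F.obj (pt B)) _ fun i => (g i).hom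
  let D : (⨁ i, P i) →ₗ[A] M × ⨁ i, P' i := LinearMap.prod γ Φ
  let mk := (LinearMap.range D).mkQ
  let mk' := (LinearMap.range Φ).mkQ
  let q : ((M × ⨁ i, P' i) ⧸ LinearMap.range D) →ₗ[A] (⨁ i, P' i) ⧸ LinearMap.range Φ :=
    (LinearMap.range D).liftQ (mk' ∘ₗ LinearMap.snd A M _) (by
      rintro _ ⟨z, rfl⟩
      exact (Submodule.Quotient.mk_eq_zero _).2 ⟨z, rfl⟩)
  let j : M →ₗ[A] (M × ⨁ i, P' i) ⧸ LinearMap.range D := mk ∘ₗ LinearMap.inl A M _
  have hmkD : mk ∘ₗ D = 0 := LinearMap.ext fun z => (Submodule.Quotient.mk_eq_zero _).2 ⟨z, rfl⟩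
  have hqj : q ∘ₗ j = 0 := LinearMap.ext fun m => by simp [q, j, mk]
  have hex : ∀ (B : Alg A) (w : (B : Type u) ⊗[A] (M × ⨁ i, P' i)), mk.lTensor B w = 0 →
      ∃ z, D.lTensor B z = w := fun B w hw =>
    (lTensor_exact (B : Type u) (LinearMap.exact_map_mkQ_range D) (Submodule.mkQ_surjective _) w).1 hw
  have hex' : ∀ (B : Alg A) (w : (B : Type u) ⊗[A] ⨁ i, P' i), mk'.lTensor B w = 0 →
      ∃ z, Φ.lTensor B z = w := fun B w hw =>
    (lTensor_exact (B : Type u) (LinearMap.exact_map_mkQ_range Φ) (Submodule.mkQ_surjective _) w).1 hw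
  refine ⟨ModuleCat.of A _, ModuleCat.of A _, ModuleCat.ofHom j, ModuleCat.ofHom q, ?_, ?_, ?_, ?_⟩
  · refine hom_ext fun B x => ?_
    have e₁ : φ.app (pt B) x = (g ⟨B, x⟩).hom.lTensor B
        ((kernel.ι ((underline A).map (φ₀ ⟨B, x⟩))).app (pt B) (y ⟨B, x⟩) : (B : Type u) ⊗[A] _) := by
      refine (congrArg (φ.app (pt B)) (hy ⟨B, x⟩)).symm.trans ?_
      exact congrArg (fun χ : K (φ₀ ⟨B, x⟩) ⟶ U A M => χ.app (pt B) (y ⟨B, x⟩)) (hg ⟨B, x⟩).symm
    have hz : (φ₀ ⟨B, x⟩).hom.lTensor B
        ((kernel.ι ((underline A).map (φ₀ ⟨B, x⟩))).app (pt B) (y ⟨B, x⟩) : (B : Type u) ⊗[A] _) = 0 :=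
      kernel_condition_apply ((underline A).map (φ₀ ⟨B, x⟩)) B (y ⟨B, x⟩)
    change j.lTensor B (φ.app (pt B) x) = 0
    rw [e₁]
    generalize ((kernel.ι ((underline A).map (φ₀ ⟨B, x⟩))).app (pt B) (y ⟨B, x⟩) :
      (B : Type u) ⊗[A] _) = z at hz ⊢
    have h : j ∘ₗ (g ⟨B, x⟩).hom = -((mk ∘ₗ LinearMap.inr A M _ ∘ₗ
        DirectSum.lof A (Σ B : Alg A, F.obj (pt B)) (fun i => P' i) ⟨B, x⟩) ∘ₗ (φ₀ ⟨B, x⟩).hom) := by
      rw [eq_neg_iff_add_eq_zero]
      refine LinearMap.ext fun p => ?_
      have := LinearMap.congr_fun hmkD (DirectSum.lof A (Σ B : Alg A, F.obj (pt B)) (fun i => P i) ⟨B, x⟩ p)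
      simp only [LinearMap.coe_comp, Function.comp_apply, LinearMap.zero_apply] at this
      refine Eq.trans ?_ this
      simp only [j, LinearMap.add_apply, LinearMap.coe_comp, Function.comp_apply, ← map_add]
      congr 1
      simp [D, γ, Φ, toModule_lof' P]
    rw [← LinearMap.comp_apply (LinearMap.lTensor (↑B) j), ← LinearMap.lTensor_comp, h,
      LinearMap.lTensor_neg, LinearMap.neg_apply, LinearMap.lTensor_comp, LinearMap.comp_apply, hz,
      map_zero, neg_zero]
  · rw [← Functor.map_comp, show ModuleCat.ofHom j ≫ ModuleCat.ofHom q = 0 from ModuleCat.hom_ext hqj,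
      Functor.map_zero]
  · intro B m hm
    obtain ⟨z, hz⟩ := hex B ((LinearMap.inl A M (⨁ i, P' i)).lTensor B (m : (B : Type u) ⊗[A] M)) (by
      rw [← LinearMap.comp_apply, ← LinearMap.lTensor_comp]
      exact hm)
    have hzγ : γ.lTensor B z = (m : (B : Type u) ⊗[A] M) := by
      have h := congrArg ((LinearMap.fst A M (⨁ i, P' i)).lTensor B) hz
      rw [← LinearMap.lTensor_comp_apply, ← LinearMap.lTensor_comp_apply, LinearMap.fst_comp_inl,
        LinearMap.lTensor_id, LinearMap.id_apply] at h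
      exact h
    have hzΦ : Φ.lTensor B z = 0 := by
      have h := congrArg ((LinearMap.snd A M (⨁ i, P' i)).lTensor B) hz
      rw [← LinearMap.lTensor_comp_apply, ← LinearMap.lTensor_comp_apply, LinearMap.snd_comp_inl,
        LinearMap.lTensor_zero, LinearMap.zero_apply] at h
      exact h
    obtain ⟨s, hs⟩ := lTensor_sum (M := fun i => P i) B z
    have hk : ∀ i, (φ₀ i).hom.lTensor B ((DirectSum.component A (Σ B : Alg A, F.obj (pt B)) (fun i => P i) i).lTensor B z) = 0 := by
      intro i
      have hc : (φ₀ i).hom ∘ₗ DirectSum.component A (Σ B : Alg A, F.obj (pt B)) (fun i => P i) i =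
          DirectSum.component A (Σ B : Alg A, F.obj (pt B)) (fun i => P' i) i ∘ₗ Φ := by
        refine DirectSum.linearMap_ext A fun k => LinearMap.ext fun p => ?_
        by_cases hki : k = i
        · subst hki
          simp [Φ, toModule_lof' P, component_lof P, component_lof P']
        · simp [Φ, toModule_lof' P, component_lof_ne P hki,
            component_lof_ne P' hki]
      rw [← LinearMap.lTensor_comp_apply, hc, LinearMap.lTensor_comp_apply, hzΦ, map_zero]
    choose w hw using fun i => mem_kernel ((underline A).map (φ₀ i)) B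
      (tmk (P i) B ((DirectSum.component A (Σ B : Alg A, F.obj (pt B)) (fun i => P i) i).lTensor B z)) (hk i)
    refine ⟨∑ i ∈ s, (ψ i).app (pt B) (w i), ?_⟩
    refine (map_sum (φ.app (pt B)).hom _ s).trans ?_
    refine Eq.trans ?_ ((congrArg (γ.lTensor B) (hs s subset_rfl)).trans hzγ)
    rw [map_sum]
    refine Finset.sum_congr rfl fun i _ => ?_
    refine (congrArg (fun χ : K (φ₀ i) ⟶ U A M => χ.app (pt B) (w i)) (hg i).symm).trans ?_
    refine (congrArg (((underline A).map (g i)).app (pt B)) (hw i)).trans ?_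
    change (g i).hom.lTensor B ((DirectSum.component A (Σ B : Alg A, F.obj (pt B)) (fun i => P i) i).lTensor B z) = _
    rw [← LinearMap.lTensor_comp_apply, ← LinearMap.lTensor_comp_apply, ← LinearMap.lTensor_comp_apply]
    refine congrArg (fun l : (⨁ i, P i) →ₗ[A] M => l.lTensor B z) ?_
    refine LinearMap.ext fun d => ?_
    exact (toModule_lof' P (fun i => (g i).hom) i _).symm
  · intro B v hv
    obtain ⟨w, hw⟩ := LinearMap.lTensor_surjective (B : Type u) (g := mk) (Submodule.mkQ_surjective _)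
      (v : (B : Type u) ⊗[A] _)
    have hv' : mk'.lTensor B ((LinearMap.snd A M (⨁ i, P' i)).lTensor B w) = 0 := by
      rw [← LinearMap.lTensor_comp_apply]
      have : q.lTensor B (v : (B : Type u) ⊗[A] _) = 0 := hv
      rw [← hw, ← LinearMap.lTensor_comp_apply] at this
      exact this
    obtain ⟨z, hz⟩ := hex' B _ hv'
    let w' := w - D.lTensor B z
    refine ⟨((LinearMap.fst A M (⨁ i, P' i)).lTensor B w' : (B : Type u) ⊗[A] M), ?_⟩
    have h0 : (LinearMap.snd A M (⨁ i, P' i)).lTensor B w' = 0 := by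
      rw [map_sub, ← LinearMap.lTensor_comp_apply, LinearMap.snd_prod, hz, sub_self]
    have hdec : (LinearMap.inl A M (⨁ i, P' i)).lTensor B ((LinearMap.fst A M _).lTensor B w') = w' := by
      have e : LinearMap.id = LinearMap.inl A M (⨁ i, P' i) ∘ₗ LinearMap.fst A M _ +
          LinearMap.inr A M _ ∘ₗ LinearMap.snd A M _ := LinearMap.ext fun p => by simp
      conv_rhs => rw [← LinearMap.id_apply (R := A) w', ← LinearMap.lTensor_id, e,
        LinearMap.lTensor_add, LinearMap.add_apply, LinearMap.lTensor_comp_apply,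
        LinearMap.lTensor_comp_apply, h0, map_zero, add_zero]
    change j.lTensor B ((LinearMap.fst A M (⨁ i, P' i)).lTensor B w') = (v : (B : Type u) ⊗[A] _)
    rw [LinearMap.lTensor_comp_apply, hdec, map_sub, ← LinearMap.lTensor_comp_apply _ _ D, hmkD,
      LinearMap.lTensor_zero, LinearMap.zero_apply, sub_zero, hw]

lemma adequate_underline (M : ModuleCat.{u + 1} A) : adequate A (U A M) :=
  ⟨M, M, 0, nonempty_iso_kernel (𝟙 _) _ (by simp) (fun _ _ _ h => h) fun B x _ => ⟨x, rfl⟩⟩

lemma adequate_kernel_underline {M N : ModuleCat.{u + 1} A} (φ : M ⟶ N) :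
    adequate A (kernel ((underline A).map φ)) :=
  ⟨M, N, φ, ⟨Iso.refl _⟩⟩

/-- An adequate functor embeds in the functor of a module. -/
lemma exists_embedding {F : MVF A} (hF : adequate A F) :
    ∃ (M : ModuleCat.{u + 1} A) (ι : F ⟶ U A M), Mono ι := by
  obtain ⟨M, N, φ, ⟨e⟩⟩ := hF
  exact ⟨M, e.hom ≫ kernel.ι _, inferInstance⟩

theorem adequate_kernel {F G : MVF A} (φ : F ⟶ G) (hF : adequate A F) (hG : adequate A G) :
    adequate A (kernel φ) := by
  obtain ⟨M, ι, hι⟩ := exists_embedding hF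
  obtain ⟨M₂, i₂, hi₂⟩ := exists_embedding hG
  let inl : M ⟶ ModuleCat.of A (M × M₂) := ModuleCat.ofHom (LinearMap.inl A M M₂)
  let inr : M₂ ⟶ ModuleCat.of A (M × M₂) := ModuleCat.ofHom (LinearMap.inr A M M₂)
  let pr₁ : ModuleCat.of A (M × M₂) ⟶ M := ModuleCat.ofHom (LinearMap.fst A M M₂)
  let pr₂ : ModuleCat.of A (M × M₂) ⟶ M₂ := ModuleCat.ofHom (LinearMap.snd A M M₂)
  let χ : F ⟶ U A (ModuleCat.of A (M × M₂)) :=
    ι ≫ (underline A).map inl + (φ ≫ i₂) ≫ (underline A).map inr
  obtain ⟨M', N', j, q, hj, -, hex, -⟩ := exists_coker hF χ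
  have h₁ : χ ≫ (underline A).map pr₁ = ι := by
    simp only [χ, Preadditive.add_comp, Category.assoc, ← Functor.map_comp]
    rw [show inl ≫ pr₁ = 𝟙 _ from ModuleCat.hom_ext (LinearMap.fst_comp_inl A M M₂),
      show inr ≫ pr₁ = 0 from ModuleCat.hom_ext (LinearMap.fst_comp_inr A M M₂)]
    simp
  have h₂ : χ ≫ (underline A).map pr₂ = φ ≫ i₂ := by
    simp only [χ, Preadditive.add_comp, Category.assoc, ← Functor.map_comp]
    rw [show inl ≫ pr₂ = 0 from ModuleCat.hom_ext (LinearMap.snd_comp_inl A M M₂),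
      show inr ≫ pr₂ = 𝟙 _ from ModuleCat.hom_ext (LinearMap.snd_comp_inr A M M₂)]
    simp
  have hw : (kernel.ι φ ≫ ι) ≫ (underline A).map (inl ≫ j) = 0 := by
    have h : kernel.ι φ ≫ χ ≫ (underline A).map j = 0 := by rw [hj, comp_zero]
    simpa [χ, Preadditive.add_comp, Preadditive.comp_add] using h
  refine ⟨M, M', inl ≫ j, nonempty_iso_kernel (kernel.ι φ ≫ ι) _ hw
    ((mono_iff_injective _).1 inferInstance) fun B m hm => ?_⟩
  obtain ⟨x, hx⟩ := hex B (((underline A).map inl).app (pt B) m)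
    ((congrArg (fun χ : U A M ⟶ U A M' => χ.app (pt B) m) ((underline A).map_comp inl j)).symm.trans hm)
  have hm₁ : ((underline A).map pr₁).app (pt B) (((underline A).map inl).app (pt B) m) = m := by
    have h : (underline A).map inl ≫ (underline A).map pr₁ = 𝟙 _ := by
      rw [← Functor.map_comp, show inl ≫ pr₁ = 𝟙 _ from ModuleCat.hom_ext (LinearMap.fst_comp_inl A M M₂),
        CategoryTheory.Functor.map_id]
    exact congrArg (fun χ : U A M ⟶ U A M => χ.app (pt B) m) h
  have hm₂ : ((underline A).map pr₂).app (pt B) (((underline A).map inl).app (pt B) m) = 0 := by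
    have h : (underline A).map inl ≫ (underline A).map pr₂ = 0 := by
      rw [← Functor.map_comp, show inl ≫ pr₂ = 0 from ModuleCat.hom_ext (LinearMap.snd_comp_inl A M M₂),
        Functor.map_zero]
    exact congrArg (fun χ : U A M ⟶ U A M₂ => χ.app (pt B) m) h
  rw [← hx] at hm₂
  obtain ⟨z, hz⟩ := mem_kernel φ B x ((mono_iff_injective i₂).1 hi₂ B (by
    rw [map_zero]
    exact (congrArg (fun χ : F ⟶ U A M₂ => χ.app (pt B) x) h₂).symm.trans hm₂))
  refine ⟨z, ?_⟩
  change ι.app (pt B) ((kernel.ι φ).app (pt B) z) = m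
  rw [hz, ← hm₁, ← hx]
  exact (congrArg (fun χ : F ⟶ U A M => χ.app (pt B) x) h₁).symm

theorem adequate_cokernel {F G : MVF A} (φ : F ⟶ G) (hF : adequate A F) (hG : adequate A G) :
    adequate A (cokernel φ) := by
  obtain ⟨M, N, ψ, ⟨e⟩⟩ := hG
  let i : G ⟶ U A M := e.hom ≫ kernel.ι _
  have hi : i ≫ (underline A).map ψ = 0 := by simp [i]
  obtain ⟨M', N', j, q, hj, hjq, hex, hex'⟩ := exists_coker hF (φ ≫ i)
  have hC : adequate A (cokernel (φ ≫ i)) := by
    obtain ⟨e'⟩ := nonempty_iso_cokernel (φ ≫ i) (kernel.lift _ _ hjq) (by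
        rw [← cancel_mono (kernel.ι ((underline A).map q))]
        simp [← hj])
      (fun B v => by
        obtain ⟨m, hm⟩ := hex' B _ (kernel_condition_apply _ B v)
        refine ⟨m, kernel_ι_injective _ B ?_⟩
        exact (congrArg (fun χ : U A M ⟶ U A M' => χ.app (pt B) m) (kernel.lift_ι _ _ hjq)).trans hm)
      (fun B m hm => hex B m ((congrArg (fun χ : U A M ⟶ U A M' => χ.app (pt B) m)
        (kernel.lift_ι _ _ hjq)).symm.trans
          ((congrArg ((kernel.ι ((underline A).map q)).app (pt B)) hm).trans (map_zero _))))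
    exact (adequate A).prop_of_iso e'.symm (adequate_kernel_underline q)
  let c : cokernel (φ ≫ i) ⟶ U A N := cokernel.desc _ ((underline A).map ψ) (by rw [Category.assoc, hi, comp_zero])
  let l : cokernel φ ⟶ cokernel (φ ≫ i) := cokernel.map φ (φ ≫ i) (𝟙 F) i (by simp)
  have hl : ∀ (B : Alg A) (x : G.obj (pt B)), l.app (pt B) ((cokernel.π φ).app (pt B) x) =
      (cokernel.π (φ ≫ i)).app (pt B) (i.app (pt B) x) := fun B x =>
    congrArg (fun χ : G ⟶ cokernel (φ ≫ i) => χ.app (pt B) x) (cokernel.π_desc φ _ _)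
  have hi' := (mono_iff_injective i).1 inferInstance
  obtain ⟨e''⟩ := nonempty_iso_kernel l c
    (by
      rw [← cancel_epi (cokernel.π φ)]
      simp [l, c, hi])
    (fun B => (injective_iff_map_eq_zero (l.app (pt B)).hom).2 fun z hz => by
      obtain ⟨x, rfl⟩ := (epi_iff_surjective (cokernel.π φ)).1 inferInstance B z
      obtain ⟨x', hx'⟩ := exact_cokernel (φ ≫ i) B _ ((hl B x).symm.trans hz)
      have : φ.app (pt B) x' = x := hi' B hx'
      rw [← this]
      exact congrArg (fun χ : F ⟶ cokernel φ => χ.app (pt B) x') (cokernel.condition φ))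
    (fun B z hz => by
      obtain ⟨m, rfl⟩ := (epi_iff_surjective (cokernel.π (φ ≫ i))).1 inferInstance B z
      obtain ⟨x, hx⟩ := mem_kernel ((underline A).map ψ) B m
        ((congrArg (fun χ : U A M ⟶ U A N => χ.app (pt B) m) (cokernel.π_desc (φ ≫ i) _ _)).symm.trans hz)
      refine ⟨(cokernel.π φ).app (pt B) (e.inv.app (pt B) x), ?_⟩
      rw [hl]
      refine congrArg _ (Eq.trans ?_ hx)
      change (kernel.ι ((underline A).map ψ)).app (pt B) (e.hom.app (pt B) (e.inv.app (pt B) x)) = _
      exact congrArg _ (congrArg (fun χ : kernel ((underline A).map ψ) ⟶ kernel ((underline A).map ψ) =>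
        χ.app (pt B) x) e.inv_hom_id))
  exact (adequate A).prop_of_iso e''.symm (adequate_kernel c hC (adequate_underline N))

instance hasColimitsOfSize_mvf : HasColimitsOfSize.{u + 1, u + 1} (MVF A) :=
  inferInstance

/-- Elements of a coproduct are finite sums. -/
lemma coproduct_span {J : Type (u + 1)} (X : J → MVF A) (B : Alg A) :
    ⨆ i, LinearMap.range ((Sigma.ι X i).app (pt B)).hom = ⊤ := by
  haveI : PreservesColimitsOfSize.{u + 1, u + 1} (ev (A := A) B) :=
    PresheafOfModules.evaluation_preservesColimitsOfSize.{u + 1, u, u + 1, u + 1, u + 1, u} (ringOf A) (pt B)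
  let hc := isColimitOfPreserves (ev B) (colimit.isColimit (Discrete.functor X))
  let S := ⨆ i, LinearMap.range ((Sigma.ι X i).app (pt B)).hom
  have h0 : ModuleCat.ofHom S.mkQ = 0 := by
    refine hc.hom_ext fun i => ?_
    obtain ⟨i⟩ := i
    refine ModuleCat.hom_ext (LinearMap.ext fun x => ?_)
    exact (Submodule.Quotient.mk_eq_zero _).2 (le_iSup (fun i => LinearMap.range
      ((Sigma.ι X i).app (pt B)).hom) i ⟨x, rfl⟩)
  rw [eq_top_iff]
  intro z _
  exact (Submodule.Quotient.mk_eq_zero _).1 (congrArg (fun f => f.hom z) h0)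

theorem adequate_coproduct {J : Type (u + 1)} (X : J → MVF A) (hX : ∀ i, adequate A (X i)) :
    adequate A (∐ X) := by
  classical
  choose M N φ he using hX
  have e := fun i => (he i).some
  let Mt : ModuleCat.{u + 1} A := ModuleCat.of A (⨁ i, M i)
  let Nt : ModuleCat.{u + 1} A := ModuleCat.of A (⨁ i, N i)
  let Φ : Mt ⟶ Nt :=
    ModuleCat.ofHom (DirectSum.toModule A J _ fun i => DirectSum.lof A J (fun i => N i) i ∘ₗ (φ i).hom)
  let inM : ∀ i, M i ⟶ Mt := fun i => ModuleCat.ofHom (DirectSum.lof A J (fun i => M i) i)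
  let inN : ∀ i, N i ⟶ Nt := fun i => ModuleCat.ofHom (DirectSum.lof A J (fun i => N i) i)
  let prM : ∀ i, Mt ⟶ M i := fun i => ModuleCat.ofHom (DirectSum.component A J (fun i => M i) i)
  let prN : ∀ i, Nt ⟶ N i := fun i => ModuleCat.ofHom (DirectSum.component A J (fun i => N i) i)
  have hin : ∀ i, φ i ≫ inN i = inM i ≫ Φ := fun i => ModuleCat.hom_ext <| LinearMap.ext fun x => by
    simp [inM, inN, Φ, toModule_lof' M]
  have hpr : ∀ i, Φ ≫ prN i = prM i ≫ φ i := fun i => ModuleCat.hom_ext <| by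
    refine DirectSum.linearMap_ext A fun k => LinearMap.ext fun p => ?_
    by_cases hki : k = i
    · subst hki
      simp [Φ, prM, prN, toModule_lof' M, component_lof M, component_lof N]
    · simp [Φ, prM, prN, toModule_lof' M, component_lof_ne M hki, component_lof_ne N hki]
  let a : ∀ i, X i ⟶ U A Mt := fun i => (e i).hom ≫ kernel.ι _ ≫ (underline A).map (inM i)
  have ha : ∀ i, a i ≫ (underline A).map Φ = 0 := fun i => by
    simp only [a, Category.assoc, ← Functor.map_comp, ← hin]
    simp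
  let c : ∐ X ⟶ U A Mt := Sigma.desc a
  have hc : ∀ i, Sigma.ι X i ≫ c = a i := fun i => Sigma.ι_desc a i
  have hdiag : ∀ i k, a i ≫ (underline A).map (prM k) =
      if h : i = k then (e i).hom ≫ kernel.ι _ ≫ eqToHom (by subst h; rfl) else 0 := fun i k => by
    by_cases h : i = k
    · subst h
      simp only [a, Category.assoc, ← Functor.map_comp, dif_pos, eqToHom_refl, Category.comp_id]
      rw [show inM i ≫ prM i = 𝟙 _ from ModuleCat.hom_ext (LinearMap.ext fun x => component_lof M i x),
        CategoryTheory.Functor.map_id, Category.comp_id]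
    · simp only [a, Category.assoc, ← Functor.map_comp, dif_neg h]
      rw [show inM i ≫ prM k = 0 from ModuleCat.hom_ext (LinearMap.ext fun x =>
        component_lof_ne M h x), Functor.map_zero, comp_zero, comp_zero]
  refine ⟨Mt, Nt, Φ, nonempty_iso_kernel c _ ?_ ?_ ?_⟩
  · refine Sigma.hom_ext _ _ fun i => ?_
    rw [← Category.assoc, hc, ha, comp_zero]
  · intro B
    refine (injective_iff_map_eq_zero (c.app (pt B)).hom).2 fun z hz => ?_
    obtain ⟨f, hf, rfl⟩ := (Submodule.mem_iSup_iff_exists_finsupp _ z).1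
      ((coproduct_span X B).ge (Submodule.mem_top (x := z)))
    choose x hx using hf
    have hz' : ∑ i ∈ f.support, (a i).app (pt B) (x i) = 0 := by
      refine Eq.trans ?_ hz
      rw [Finsupp.sum, map_sum]
      refine Finset.sum_congr rfl fun i _ => ?_
      rw [← hx i]
      exact (congrArg (fun χ : X i ⟶ U A Mt => χ.app (pt B) (x i)) (hc i)).symm
    have hx0 : ∀ k ∈ f.support, x k = 0 := by
      intro k hk
      have h := congrArg (((underline A).map (prM k)).app (pt B)) hz'
      rw [map_sum, map_zero, Finset.sum_eq_single k (fun i _ hik => ?_) (fun h' => absurd hk h')] at h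
      · have h' : ((e k).hom ≫ kernel.ι _).app (pt B) (x k) = 0 := by
          refine Eq.trans ?_ h
          have hd : a k ≫ (underline A).map (prM k) = (e k).hom ≫ kernel.ι _ := by
            rw [hdiag k k, dif_pos rfl, eqToHom_refl, Category.comp_id]
          exact (congrArg (fun χ : X k ⟶ U A (M k) => χ.app (pt B) (x k)) hd).symm
        exact (mono_iff_injective ((e k).hom ≫ kernel.ι _)).1 inferInstance B (h'.trans (map_zero _).symm)
      · have hd : a i ≫ (underline A).map (prM k) = 0 := by rw [hdiag i k, dif_neg hik]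
        exact congrArg (fun χ : X i ⟶ U A (M k) => χ.app (pt B) (x i)) hd
    refine Finset.sum_eq_zero fun k hk => ?_
    rw [← hx k, hx0 k hk, map_zero]
  · intro B m hm
    obtain ⟨s, hs⟩ := lTensor_sum (M := fun i => M i) B (m : (B : Type u) ⊗[A] Mt)
    have hk : ∀ i, ((underline A).map (φ i)).app (pt B) (((underline A).map (prM i)).app (pt B) m) = 0 := by
      intro i
      refine (congrArg (fun χ : U A Mt ⟶ U A (N i) => χ.app (pt B) m)
        (show (underline A).map (prM i) ≫ (underline A).map (φ i) =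
          (underline A).map Φ ≫ (underline A).map (prN i) by
            rw [← Functor.map_comp, ← Functor.map_comp, hpr])).trans ?_
      exact (congrArg (((underline A).map (prN i)).app (pt B)) hm).trans (map_zero _)
    choose x hx using fun i => mem_kernel ((underline A).map (φ i)) B _ (hk i)
    refine ⟨∑ i ∈ s, (Sigma.ι X i).app (pt B) ((e i).inv.app (pt B) (x i)), ?_⟩
    refine (map_sum (c.app (pt B)).hom _ s).trans ?_
    refine Eq.trans ?_ (hs s subset_rfl)
    refine Finset.sum_congr rfl fun i _ => ?_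
    refine (congrArg (fun χ : X i ⟶ U A Mt => χ.app (pt B) ((e i).inv.app (pt B) (x i))) (hc i)).trans ?_
    change ((underline A).map (inM i)).app (pt B) ((kernel.ι ((underline A).map (φ i))).app (pt B)
      ((e i).hom.app (pt B) ((e i).inv.app (pt B) (x i)))) = _
    rw [show (e i).hom.app (pt B) ((e i).inv.app (pt B) (x i)) = x i from
      congrArg (fun χ : kernel ((underline A).map (φ i)) ⟶ kernel ((underline A).map (φ i)) =>
        χ.app (pt B) (x i)) (e i).inv_hom_id, hx i]
    rfl

theorem adequate_colimit {J : Type (u + 1)} [SmallCategory J] (D : J ⥤ MVF A)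
    (hD : ∀ j, adequate A (D.obj j)) : adequate A (colimit D) := by
  let d : (∐ fun f : (Σ i : J, Σ j : J, (i ⟶ j)) => D.obj f.1) ⟶ ∐ D.obj :=
    Sigma.desc fun f => Sigma.ι D.obj f.1 - D.map f.2.2 ≫ Sigma.ι D.obj f.2.1
  let cc : Cocone D := Cocone.mk (cokernel d)
    { app := fun j => Sigma.ι D.obj j ≫ cokernel.π d
      naturality := fun i j f => by
        have h := Sigma.ι (fun f : (Σ i : J, Σ j : J, (i ⟶ j)) => D.obj f.1) ⟨i, j, f⟩ ≫= cokernel.condition d
        simp only [d, Sigma.ι_desc_assoc, comp_zero, Preadditive.sub_comp, sub_eq_zero,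
          Category.assoc] at h
        simpa [d] using h.symm }
  have hcc : IsColimit cc :=
    { desc := fun s => cokernel.desc d (Sigma.desc s.ι.app) (Sigma.hom_ext _ _ fun f => by
        simp [d, Preadditive.sub_comp])
      fac := fun s j => by simp [cc]
      uniq := fun s m hm => by
        rw [← cancel_epi (cokernel.π d)]
        refine Sigma.hom_ext _ _ fun j => ?_
        simpa [cc] using hm j }
  exact (adequate A).prop_of_iso (hcc.coconePointUniqueUpToIso (colimit.isColimit D))
    (adequate_cokernel d (adequate_coproduct _ fun f => hD f.1) (adequate_coproduct _ hD))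

end Groth.Agent.H02CA.Adq
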