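import Groth.Agent.H02CA.Adeq.Coker
import Mathlib.Algebra.Polynomial.Eval.Coeff

/-!
# Representing a linearly adequate functor
-/

set_option autoImplicit false
set_option linter.style.haveILetI false

universe u

open CategoryTheory Opposite Limits TensorProduct

namespace Groth.Agent.H02CA.Adq

open Adeq

variable {A : Type u} [CommRing A]

/-- The transition maps of a module valued functor, as additive maps. -/
noncomputable def mp (F : MVF A) {B B' : Alg A} (f : B ⟶ B') : F.obj (pt B) →+ F.obj (pt B') where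
  toFun x := F.map (ptHom f) x
  map_zero' := map_zero (F.map (ptHom f)).hom
  map_add' x y := map_add (F.map (ptHom f)).hom x y

lemma mp_def (F : MVF A) {B B' : Alg A} (f : B ⟶ B') (x : F.obj (pt B)) :
    mp F f x = F.map (ptHom f) x := rfl

lemma mp_smul (F : MVF A) {B B' : Alg A} (f : B ⟶ B') (b : B) (x : F.obj (pt B)) :
    mp F f (b • x) = f.hom b • mp F f x := map_smul' F f b x

lemma mp_comp (F : MVF A) {B B' B'' : Alg A} (f : B ⟶ B') (g : B' ⟶ B'') (x : F.obj (pt B)) :
    mp F (f ≫ g) x = mp F g (mp F f x) := map_comp' F f g x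

lemma mp_id (F : MVF A) (B : Alg A) (x : F.obj (pt B)) : mp F (𝟙 B) x = x := map_id' F B x

lemma nat_mp {F G : MVF A} (φ : F ⟶ G) {B B' : Alg A} (f : B ⟶ B') (x : F.obj (pt B)) :
    φ.app (pt B') (mp F f x) = mp G f (φ.app (pt B) x) := nat_apply φ f x

lemma mp_U (M : ModuleCat.{u + 1} A) {B B' : Alg A} (f : B ⟶ B') (x : (B : Type u) ⊗[A] M) :
    mp (U A M) f (tmk M B x) = tmk M B' (f.hom.toLinearMap.rTensor M x) := rfl

lemma repr_sum_tmul {ι : Type} [Fintype ι] {P : Type (u + 1)} [AddCommGroup P] [Module A P]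
    (b : Module.Basis ι A P) (B : Type u) [CommRing B] [Algebra A B] (r : ι → B) (i : ι) :
    (Algebra.TensorProduct.basis B b).repr (∑ j, r j ⊗ₜ[A] b j) i = r i := by
  have h : ∑ j, r j ⊗ₜ[A] b j = ∑ j, r j • Algebra.TensorProduct.basis B b j :=
    Finset.sum_congr rfl fun j _ => by
      rw [Algebra.TensorProduct.basis_apply, TensorProduct.smul_tmul', smul_eq_mul, mul_one]
  rw [h, Module.Basis.repr_sum_self]

lemma eq_sum_repr_tmul {ι : Type} [Fintype ι] {P : Type (u + 1)} [AddCommGroup P] [Module A P]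
    (b : Module.Basis ι A P) (B : Type u) [CommRing B] [Algebra A B] (x : B ⊗[A] P) :
    x = ∑ j, ((Algebra.TensorProduct.basis B b).repr x j) ⊗ₜ[A] b j := by
  refine ((Algebra.TensorProduct.basis B b).sum_repr x).symm.trans ?_
  refine Finset.sum_congr rfl fun j _ => ?_
  rw [Algebra.TensorProduct.basis_apply, TensorProduct.smul_tmul', smul_eq_mul, mul_one]

/-- The kernel of a map between free modules, after any change of algebra, is representable. -/
theorem exists_rep {P P' : Type (u + 1)} [AddCommGroup P] [Module A P] [AddCommGroup P'] [Module A P']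
    [Module.Finite A P] [Module.Free A P] [Module.Free A P'] (φ : P →ₗ[A] P') :
    ∃ (R : Alg A) (z : (R : Type u) ⊗[A] P), φ.baseChange R z = 0 ∧
      ∀ (B : Alg A) (x : (B : Type u) ⊗[A] P), φ.baseChange B x = 0 →
        ∃! f : R ⟶ B, f.hom.toLinearMap.rTensor P z = x := by
  classical
  let b₀ := Module.Free.chooseBasis A P
  let e : Module.Free.ChooseBasisIndex A P ≃ Fin (Fintype.card (Module.Free.ChooseBasisIndex A P)) :=
    Fintype.equivFin _
  let b := b₀.reindex e
  let b' := Module.Free.chooseBasis A P'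
  let S := MvPolynomial (Fin (Fintype.card (Module.Free.ChooseBasisIndex A P))) A
  let ℓ₀ : S ⊗[A] P := ∑ i, (MvPolynomial.X i : S) ⊗ₜ[A] b i
  let I : Ideal S := Ideal.span
    (Set.range fun k => (Algebra.TensorProduct.basis S b').repr (φ.baseChange S ℓ₀) k)
  let q : S →ₐ[A] (S ⧸ I) := Ideal.Quotient.mkₐ A I
  refine ⟨algOf A (S ⧸ I), q.toLinearMap.rTensor P ℓ₀, ?_, fun B x hx => ?_⟩
  · change φ.baseChange (S ⧸ I) (q.toLinearMap.rTensor P ℓ₀) = 0
    rw [← rTensor_baseChange]
    apply (Algebra.TensorProduct.basis (S ⧸ I) b').repr.injective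
    rw [map_zero]
    ext k
    rw [repr_rTensor, Finsupp.zero_apply]
    exact Ideal.Quotient.eq_zero_iff_mem.2 (Ideal.subset_span ⟨k, rfl⟩)
  obtain ⟨c, hc⟩ : ∃ c : _ → (B : Type u), x = ∑ i, c i ⊗ₜ[A] b i :=
    ⟨_, eq_sum_repr_tmul b (B : Type u) x⟩
  have hf : (MvPolynomial.aeval c).toLinearMap.rTensor P ℓ₀ = ∑ i, c i ⊗ₜ[A] b i := by
    simp [ℓ₀]
  have hI : I ≤ RingHom.ker (MvPolynomial.aeval c).toRingHom := by
    rw [Ideal.span_le]
    rintro _ ⟨k, rfl⟩
    change (MvPolynomial.aeval c) _ = 0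
    rw [← repr_rTensor, rTensor_baseChange, hf, ← hc, hx, map_zero, Finsupp.zero_apply]
  refine ⟨CommAlgCat.ofHom (Ideal.Quotient.liftₐ I (MvPolynomial.aeval c) hI), ?_, fun f hfx => ?_⟩
  · change (Ideal.Quotient.liftₐ I (MvPolynomial.aeval c) hI).toLinearMap.rTensor P
      (q.toLinearMap.rTensor P ℓ₀) = x
    rw [← LinearMap.rTensor_comp_apply, ← AlgHom.comp_toLinearMap, hc, ← hf]
    exact congrArg (fun h : S →ₐ[A] B => h.toLinearMap.rTensor P ℓ₀) (Ideal.Quotient.liftₐ_comp _ _ _)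
  · apply CommAlgCat.hom_ext
    apply Ideal.Quotient.algHom_ext
    refine MvPolynomial.algHom_ext fun i => ?_
    have h : f.hom.toLinearMap.rTensor P (q.toLinearMap.rTensor P ℓ₀) = ∑ j, c j ⊗ₜ[A] b j :=
      hfx.trans hc
    rw [← LinearMap.rTensor_comp_apply, map_sum] at h
    have h' := congrArg (fun z => (Algebra.TensorProduct.basis (B : Type u) b).repr z i) h
    simp only [LinearMap.rTensor_tmul, repr_sum_tmul] at h'
    refine h'.trans ?_
    change c i = Ideal.Quotient.liftₐ I (MvPolynomial.aeval c) hI (q (MvPolynomial.X i))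
    exact (MvPolynomial.aeval_X c i).symm

/-- A linearly adequate functor is representable. -/
theorem exists_universal {P P' : ModuleCat.{u + 1} A} [Module.Finite A P] [Module.Free A P]
    [Module.Free A P'] (φ₀ : P ⟶ P') :
    ∃ (R : Alg A) (ℓ : (K φ₀).obj (pt R)),
      ∀ (B : Alg A) (x : (K φ₀).obj (pt B)), ∃! f : R ⟶ B, mp (K φ₀) f ℓ = x := by
  obtain ⟨R, z, hz, huniv⟩ := exists_rep φ₀.hom
  obtain ⟨ℓ, hℓ⟩ := mem_kernel ((underline A).map φ₀) R (tmk P R z) hz
  refine ⟨R, ℓ, fun B x => ?_⟩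
  obtain ⟨f, hf, huniq⟩ := huniv B ((kernel.ι ((underline A).map φ₀)).app (pt B) x)
    (kernel_condition_apply ((underline A).map φ₀) B x)
  have key : ∀ g : R ⟶ B, (kernel.ι ((underline A).map φ₀)).app (pt B) (mp (K φ₀) g ℓ) =
      g.hom.toLinearMap.rTensor P z := fun g => by
    rw [nat_mp, hℓ]
    rfl
  refine ⟨f, kernel_ι_injective ((underline A).map φ₀) B ((key f).trans hf), fun g hg => huniq g ?_⟩
  rw [← hg]
  exact (key g).symm

end Groth.Agent.H02CA.Adq
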