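import Groth.Agent.H13Desc.Amitsur
import Groth.Agent.H02CA.Adeq.Univ
import Groth.Agent.H02CA.Adeq.Coker

/-!
# The Amitsur complex of an adequate functor
-/

set_option autoImplicit false
set_option linter.style.haveILetI false

universe u

open CategoryTheory Opposite Limits TensorProduct

namespace Groth.Agent.H02CA.Adq

open Adeq
open Groth.Agent.H13Desc

section Linear

variable {R : Type u} [CommRing R] {A : Type u} [CommRing A] [Algebra R A] [Module.FaithfullyFlat R A]
  {X Y Z : Type u} [AddCommGroup X] [Module R X] [AddCommGroup Y] [Module R Y] [AddCommGroup Z] [Module R Z]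
  (M : Type (u + 1)) [AddCommGroup M] [Module R M]

/-- A map of tensors with an extra factor. -/
noncomputable def ext3 (h : A ⊗[R] X →ₗ[R] A ⊗[R] Y) : A ⊗[R] (X ⊗[R] M) →ₗ[R] A ⊗[R] (Y ⊗[R] M) :=
  (TensorProduct.assoc R A Y M).toLinearMap ∘ₗ h.rTensor M ∘ₗ (TensorProduct.assoc R A X M).symm.toLinearMap

omit [Module.FaithfullyFlat R A] in
lemma ext3_tmul (h : A ⊗[R] X →ₗ[R] A ⊗[R] Y) (a : A) (x : X) (m : M) :
    ext3 M h (a ⊗ₜ (x ⊗ₜ m)) = TensorProduct.assoc R A Y M (h (a ⊗ₜ x) ⊗ₜ m) := by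
  simp [ext3]

omit [Module.FaithfullyFlat R A] in
lemma lTensor_rTensor_eq (f : X →ₗ[R] Y) :
    (f.rTensor M).lTensor A = ext3 M (f.lTensor A) := by
  refine TensorProduct.ext' fun a z => ?_
  induction z using TensorProduct.induction_on with
  | zero => simp
  | tmul x m => simp [ext3_tmul]
  | add z z' hz hz' => simp only [TensorProduct.tmul_add, map_add, hz, hz']

omit [Module.FaithfullyFlat R A] in
lemma ext3_comp (h : A ⊗[R] X →ₗ[R] A ⊗[R] Y) (h' : A ⊗[R] Y →ₗ[R] A ⊗[R] Z) :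
    ext3 M h' ∘ₗ ext3 M h = ext3 M (h' ∘ₗ h) := by
  refine LinearMap.ext fun z => ?_
  simp [ext3, LinearMap.rTensor_comp_apply]

omit [Module.FaithfullyFlat R A] in
lemma ext3_id : ext3 M (LinearMap.id : A ⊗[R] X →ₗ[R] A ⊗[R] X) = LinearMap.id := by
  refine LinearMap.ext fun z => ?_
  simp [ext3]

omit [Module.FaithfullyFlat R A] in
lemma ext3_add (h h' : A ⊗[R] X →ₗ[R] A ⊗[R] Y) : ext3 M (h + h') = ext3 M h + ext3 M h' := by
  refine LinearMap.ext fun z => ?_
  simp [ext3, LinearMap.rTensor_add]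

/-- A contraction after faithfully flat extension gives exactness with coefficients. -/
theorem exact_rTensor_of_contraction (f : X →ₗ[R] Y) (g : Y →ₗ[R] Z) (hgf : g ∘ₗ f = 0)
    (Hf : A ⊗[R] Y →ₗ[R] A ⊗[R] X) (Hg : A ⊗[R] Z →ₗ[R] A ⊗[R] Y)
    (h : Hg ∘ₗ g.lTensor A + f.lTensor A ∘ₗ Hf = LinearMap.id) :
    Function.Exact (f.rTensor M) (g.rTensor M) := by
  rw [← Module.FaithfullyFlat.lTensor_exact_iff_exact R A, lTensor_rTensor_eq, lTensor_rTensor_eq]
  intro z
  refine ⟨fun hz => ⟨ext3 M Hf z, ?_⟩, ?_⟩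
  · have e := LinearMap.congr_fun (congrArg (ext3 M) h) z
    rw [ext3_add, ext3_id, ← ext3_comp, ← ext3_comp] at e
    simpa [hz] using e
  · rintro ⟨w, rfl⟩
    rw [← LinearMap.comp_apply, ext3_comp, ← LinearMap.lTensor_comp, hgf, LinearMap.lTensor_zero]
    simp [ext3]

/-- A retraction after faithfully flat extension gives injectivity with coefficients. -/
theorem injective_rTensor_of_retraction (f : X →ₗ[R] Y) (Hf : A ⊗[R] Y →ₗ[R] A ⊗[R] X)
    (h : Hf ∘ₗ f.lTensor A = LinearMap.id) : Function.Injective (f.rTensor M) := by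
  rw [← Module.FaithfullyFlat.lTensor_injective_iff_injective R A, lTensor_rTensor_eq]
  refine Function.LeftInverse.injective (g := ext3 M Hf) fun z => ?_
  rw [← LinearMap.comp_apply, ext3_comp, h, ext3_id]
  rfl

end Linear

variable {R : Type u} [CommRing R] (A : Type u) [CommRing A] [Algebra R A]

/-- The terms of the Amitsur complex. -/
noncomputable def amAlg (n : ℕ) : Alg R := algOf R (Amitsur.Y R A n)

/-- The coface maps. -/
noncomputable def amδ (n : ℕ) (i : Fin (n + 2)) : amAlg (R := R) A n ⟶ amAlg A (n + 1) :=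
  CommAlgCat.ofHom (Amitsur.δ R A n i)

/-- The augmentation. -/
noncomputable def amAug : algOf R R ⟶ amAlg (R := R) A 0 :=
  CommAlgCat.ofHom (Algebra.ofId R (Amitsur.Y R A 0))

/-- The differential on values. -/
noncomputable def amD (F : MVF R) (n : ℕ) : F.obj (pt (amAlg A n)) →+ F.obj (pt (amAlg A (n + 1))) :=
  ∑ i : Fin (n + 2), (-1 : ℤ) ^ (i : ℕ) • mp F (amδ A n i)

lemma amD_apply (F : MVF R) (n : ℕ) (x : F.obj (pt (amAlg A n))) :
    amD A F n x = ∑ i : Fin (n + 2), (-1 : ℤ) ^ (i : ℕ) • mp F (amδ A n i) x := by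
  simp [amD]

lemma amD_natural {F G : MVF R} (φ : F ⟶ G) (n : ℕ) (x : F.obj (pt (amAlg A n))) :
    φ.app (pt (amAlg A (n + 1))) (amD A F n x) = amD A G n (φ.app (pt (amAlg A n)) x) := by
  rw [amD_apply, amD_apply, map_sum]
  refine Finset.sum_congr rfl fun i _ => ?_
  rw [map_zsmul, nat_mp]

lemma amD_U (M : ModuleCat.{u + 1} R) (n : ℕ) (x : (Amitsur.Y R A n : Type u) ⊗[R] M) :
    amD A (U R M) n (tmk M (amAlg A n) x) =
      tmk M (amAlg A (n + 1)) ((Amitsur.d R A n).rTensor M x) := by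
  have e : (Amitsur.d R A n).rTensor M x =
      ∑ i : Fin (n + 2), (-1 : ℤ) ^ (i : ℕ) • (Amitsur.δ R A n i).toLinearMap.rTensor M x := by
    induction x using TensorProduct.induction_on with
    | zero => simp
    | tmul y m => simp [Amitsur.d, TensorProduct.sum_tmul, TensorProduct.smul_tmul']
    | add a b ha hb => simp only [map_add, ha, hb, smul_add, Finset.sum_add_distrib]
  rw [amD_apply, e]
  rfl

/-- The retraction of the first term. -/
noncomputable def pi0 : Amitsur.Y R A 0 ⟶ CommRingCat.of A :=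
  WidePushout.desc (CommRingCat.ofHom (algebraMap R A)) (fun _ : Fin 1 => 𝟙 (CommRingCat.of A))
    (fun _ => Category.comp_id _)

lemma ι_pi0 : Amitsur.ι R A 0 0 ≫ pi0 (R := R) A = 𝟙 (CommRingCat.of A) :=
  WidePushout.ι_desc _ _ _ _ 0

lemma pi0_algebraMap (r : R) : (pi0 (R := R) A).hom (algebraMap R (Amitsur.Y R A 0) r) = algebraMap R A r := by
  rw [← Amitsur.ι_algebraMap R A 0 0 r]
  exact ConcreteCategory.congr_hom (ι_pi0 (R := R) A) (algebraMap R A r)

/-- The retraction of the augmentation. -/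
noncomputable def Hm : A ⊗[R] (Amitsur.Y R A 0) →ₗ[R] A ⊗[R] R :=
  (TensorProduct.rid R A).symm.toLinearMap ∘ₗ
    (Algebra.TensorProduct.lift (AlgHom.id R A)
      ({ (pi0 (R := R) A).hom with commutes' := pi0_algebraMap A } : Amitsur.Y R A 0 →ₐ[R] A)
      fun _ _ => Commute.all _ _).toLinearMap

lemma Hm_tmul (a b : A) : Hm A (a ⊗ₜ[R] Amitsur.ι R A 0 0 b) = (a * b) ⊗ₜ[R] (1 : R) := by
  simp only [Hm, LinearMap.comp_apply, AlgHom.toLinearMap_apply, Algebra.TensorProduct.lift_tmul,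
    AlgHom.id_apply, LinearEquiv.coe_coe, TensorProduct.rid_symm_apply]
  exact congrArg (fun t => (a * t) ⊗ₜ[R] (1 : R)) (ConcreteCategory.congr_hom (ι_pi0 (R := R) A) b)

lemma exists_ι_eq (y : Amitsur.Y R A 0) : ∃ b : A, Amitsur.ι R A 0 0 b = y := by
  have e : pi0 (R := R) A ≫ Amitsur.ι R A 0 0 = 𝟙 (Amitsur.Y R A 0) := by
    refine WidePushout.hom_ext _ _ _ (fun j => ?_) ?_
    · obtain rfl : j = 0 := Fin.fin_one_eq_zero j
      refine (Category.assoc _ _ _).symm.trans ?_
      exact ((congrArg (· ≫ Amitsur.ι R A 0 0) (ι_pi0 (R := R) A)).trans (Category.id_comp _)).trans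
        (Category.comp_id _).symm
    · refine (Category.assoc _ _ _).symm.trans ?_
      exact ((congrArg (· ≫ Amitsur.ι R A 0 0) (WidePushout.head_desc _ _ _ _)).trans
        (WidePushout.arrow_ι (fun _ : Fin 1 => CommRingCat.ofHom (algebraMap R A)) 0)).trans
        (Category.comp_id _).symm
  exact ⟨(pi0 (R := R) A).hom y, ConcreteCategory.congr_hom e y⟩

lemma contraction_zero :
    (Amitsur.H R A 0).toLinearMap ∘ₗ (Amitsur.d R A 0).lTensor A +
      (Algebra.linearMap R (Amitsur.Y R A 0)).lTensor A ∘ₗ Hm A = LinearMap.id := by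
  refine TensorProduct.ext' fun a y => ?_
  obtain ⟨b, rfl⟩ := exists_ι_eq A y
  simp only [LinearMap.add_apply, LinearMap.comp_apply, LinearMap.lTensor_tmul, LinearMap.id_apply,
    AlgHom.toLinearMap_apply, Hm_tmul]
  have hd : Amitsur.d R A 0 (Amitsur.ι R A 0 0 b) = Amitsur.ι R A 1 1 b - Amitsur.ι R A 1 0 b := by
    simp [Amitsur.d, Fin.sum_univ_two, sub_eq_add_neg]
    exact congrArg₂ (fun s t => s + -t) (Amitsur.δ_ι R A 0 0 0 b) (Amitsur.δ_ι R A 0 1 0 b)
  have hH : Hm A (a ⊗ₜ[R] Amitsur.ι R A 0 0 b) = (a * b) ⊗ₜ[R] (1 : R) := Hm_tmul A a b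
  erw [hH]
  rw [LinearMap.lTensor_tmul, hd, TensorProduct.tmul_sub, map_sub, Amitsur.H_tmul, Amitsur.H_tmul, Amitsur.shift_ι,
    Amitsur.shift_ι, show (1 : Fin 2) = Fin.succ (0 : Fin 1) from rfl, Amitsur.slot_succ, Amitsur.slot_zero,
    Algebra.TensorProduct.tmul_mul_tmul, Algebra.TensorProduct.tmul_mul_tmul, one_mul, mul_one, one_mul,
    Algebra.linearMap_apply, map_one]
  abel

variable [Module.FaithfullyFlat R A]

lemma injective_aug_U (M : ModuleCat.{u + 1} R) : Function.Injective (mp (U R M) (amAug A)) := by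
  refine injective_rTensor_of_retraction (A := A) M (Algebra.linearMap R (Amitsur.Y R A 0)) (Hm A) ?_
  refine TensorProduct.ext' fun a r => ?_
  have h : ∀ r : R, algebraMap R (Amitsur.Y R A 0) r = Amitsur.ι R A 0 0 (algebraMap R A r) :=
    fun r => (Amitsur.ι_algebraMap R A 0 0 r).symm
  simp only [LinearMap.comp_apply, LinearMap.lTensor_tmul, Algebra.linearMap_apply, LinearMap.id_apply, h,
    ]
  refine (Hm_tmul A a (algebraMap R A r)).trans ?_
  rw [mul_comm, ← Algebra.smul_def, TensorProduct.smul_tmul, smul_eq_mul, mul_one]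

lemma exact_aug_U (M : ModuleCat.{u + 1} R) :
    Function.Exact (mp (U R M) (amAug A)) (amD A (U R M) 0) := by
  have hgf : Amitsur.d R A 0 ∘ₗ Algebra.linearMap R (Amitsur.Y R A 0) = 0 := by
    refine LinearMap.ext fun r => ?_
    simp [Amitsur.d, Fin.sum_univ_two]
  have h := exact_rTensor_of_contraction (A := A) M (Algebra.linearMap R (Amitsur.Y R A 0)) (Amitsur.d R A 0)
    hgf (Hm A) (Amitsur.H R A 0).toLinearMap (contraction_zero A)
  intro z
  refine Iff.trans ?_ (h z)
  exact (congrArg (fun t => t = 0) (amD_U A M 0 z)).to_iff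

lemma exact_d_U (M : ModuleCat.{u + 1} R) (n : ℕ) :
    Function.Exact (amD A (U R M) n) (amD A (U R M) (n + 1)) := by
  have h := exact_rTensor_of_contraction (A := A) M (Amitsur.d R A n) (Amitsur.d R A (n + 1))
    (LinearMap.ext (Amitsur.d_comp_d_apply R A n)) (Amitsur.H R A n).toLinearMap (Amitsur.H R A (n + 1)).toLinearMap
    (LinearMap.ext fun x => Amitsur.contraction R A n x)
  intro z
  refine Iff.trans ((congrArg (fun t => t = 0) (amD_U A M (n + 1) z)).to_iff.trans (h z)) ?_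
  exact ⟨fun ⟨w, hw⟩ => ⟨w, (amD_U A M n w).trans hw⟩, fun ⟨w, hw⟩ => ⟨w, (amD_U A M n w).symm.trans hw⟩⟩

/-- The first terms for an adequate functor. -/
theorem injective_aug {F : MVF R} (hF : adequate R F) : Function.Injective (mp F (amAug A)) := by
  obtain ⟨M, N, φ, ⟨e⟩⟩ := hF
  let ι : F ⟶ U R M := e.hom ≫ kernel.ι _
  intro x y hxy
  refine (mono_iff_injective ι).1 inferInstance (algOf R R) (injective_aug_U A M ?_)
  rw [← nat_mp, ← nat_mp, hxy]

/-- Exactness at the first term. -/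
theorem exact_aug {F : MVF R} (hF : adequate R F) : Function.Exact (mp F (amAug A)) (amD A F 0) := by
  obtain ⟨M, N, φ, ⟨e⟩⟩ := hF
  let ψ : U R M ⟶ U R N := (underline R).map φ
  let ι : F ⟶ U R M := e.hom ≫ kernel.ι ψ
  have hι : ∀ C : Alg R, Function.Injective (ι.app (pt C)) := (mono_iff_injective ι).1 inferInstance
  have hιψ : ι ≫ ψ = 0 := by rw [Category.assoc, kernel.condition, comp_zero]
  intro x
  refine ⟨fun hx => ?_, ?_⟩
  · obtain ⟨m, hm⟩ := (exact_aug_U A M (ι.app (pt (amAlg A 0)) x)).1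
      ((amD_natural A ι 0 x).symm.trans ((congrArg (ι.app _) hx).trans (map_zero _)))
    have h0 : ψ.app (pt (algOf R R)) m = 0 := by
      apply injective_aug_U A N
      rw [← nat_mp, hm, map_zero]
      exact congrArg (fun χ : F ⟶ U R N => χ.app (pt (amAlg A 0)) x) hιψ
    obtain ⟨y, hy⟩ := mem_kernel ψ (algOf R R) m h0
    refine ⟨e.inv.app (pt (algOf R R)) y, hι _ ?_⟩
    rw [nat_mp]
    refine Eq.trans (congrArg (mp (U R M) (amAug A)) ?_) hm
    refine Eq.trans ?_ hy
    exact congrArg ((kernel.ι ψ).app (pt (algOf R R)))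
      (congrArg (fun χ : kernel ψ ⟶ kernel ψ => χ.app (pt (algOf R R)) y) e.inv_hom_id)
  · rintro ⟨y, rfl⟩
    apply hι
    rw [amD_natural, nat_mp, map_zero]
    exact (exact_aug_U A M _).2 ⟨_, rfl⟩

/-- The inductive step: exactness follows from a lifting property for images. -/
theorem exact_step {F : MVF R} (hF : adequate R F) (n : ℕ)
    (hlift : ∀ {M N : ModuleCat.{u + 1} R} (ψ : U R M ⟶ U R N) (w : (U R M).obj (pt (amAlg A n))),
      amD A (U R N) n (ψ.app (pt (amAlg A n)) w) = 0 →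
        ∃ w' : (U R M).obj (pt (amAlg A n)),
          amD A (U R M) n w' = amD A (U R M) n w ∧ ψ.app (pt (amAlg A n)) w' = 0) :
    Function.Exact (amD A F n) (amD A F (n + 1)) := by
  obtain ⟨M, N, φ, ⟨e⟩⟩ := hF
  let ψ : U R M ⟶ U R N := (underline R).map φ
  let ι : F ⟶ U R M := e.hom ≫ kernel.ι ψ
  have hι : ∀ C : Alg R, Function.Injective (ι.app (pt C)) := (mono_iff_injective ι).1 inferInstance
  have hιψ : ι ≫ ψ = 0 := by rw [Category.assoc, kernel.condition, comp_zero]
  intro x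
  refine ⟨fun hx => ?_, ?_⟩
  · obtain ⟨w, hw⟩ := (exact_d_U A M n (ι.app (pt (amAlg A (n + 1))) x)).1
      ((amD_natural A ι (n + 1) x).symm.trans ((congrArg (ι.app _) hx).trans (map_zero _)))
    obtain ⟨w', hw', h0⟩ := hlift ψ w (by
      rw [← amD_natural, hw]
      exact congrArg (fun χ : F ⟶ U R N => χ.app (pt (amAlg A (n + 1))) x) hιψ)
    obtain ⟨y, hy⟩ := mem_kernel ψ (amAlg A n) w' h0
    refine ⟨e.inv.app (pt (amAlg A n)) y, hι _ ?_⟩
    rw [amD_natural]
    refine Eq.trans (congrArg (amD A (U R M) n) ?_) (hw'.trans hw)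
    refine Eq.trans ?_ hy
    exact congrArg ((kernel.ι ψ).app (pt (amAlg A n)))
      (congrArg (fun χ : kernel ψ ⟶ kernel ψ => χ.app (pt (amAlg A n)) y) e.inv_hom_id)
  · rintro ⟨y, rfl⟩
    apply hι
    rw [amD_natural, amD_natural, map_zero]
    exact (exact_d_U A M n _).2 ⟨_, rfl⟩

omit [Module.FaithfullyFlat R A] in
/-- Elements of an image are images. -/
lemma exists_of_image {M N : ModuleCat.{u + 1} R} (ψ : U R M ⟶ U R N) (C : Alg R)
    (v : (kernel (cokernel.π ψ)).obj (pt C)) :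
    ∃ m, ψ.app (pt C) m = (kernel.ι (cokernel.π ψ)).app (pt C) v :=
  exact_cokernel ψ C _ (kernel_condition_apply (cokernel.π ψ) C v)

/-- Exactness in higher degrees. -/
theorem exact_d {F : MVF R} (hF : adequate R F) (n : ℕ) : Function.Exact (amD A F n) (amD A F (n + 1)) := by
  induction n generalizing F with
  | zero =>
    refine exact_step A hF 0 fun {M N} ψ w hd => ?_
    let I := kernel (cokernel.π ψ)
    have hI : adequate R I :=
      adequate_kernel _ (adequate_underline N) (adequate_cokernel ψ (adequate_underline M) (adequate_underline N))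
    obtain ⟨v, hv⟩ := mem_kernel (cokernel.π ψ) (amAlg A 0) (ψ.app (pt (amAlg A 0)) w)
      (congrArg (fun χ : U R M ⟶ cokernel ψ => χ.app (pt (amAlg A 0)) w) (cokernel.condition ψ))
    obtain ⟨t, ht⟩ := (exact_aug A hI v).1 (kernel_ι_injective (cokernel.π ψ) _ (by
      rw [amD_natural, hv, hd, map_zero]))
    obtain ⟨m, hm⟩ := exists_of_image ψ (algOf R R) t
    refine ⟨w - mp (U R M) (amAug A) m, ?_, ?_⟩
    · rw [map_sub, (exact_aug_U A M _).2 ⟨m, rfl⟩, sub_zero]
    · rw [map_sub, nat_mp, hm, ← nat_mp, ht, hv, sub_self]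
  | succ k ih =>
    refine exact_step A hF (k + 1) fun {M N} ψ w hd => ?_
    let I := kernel (cokernel.π ψ)
    have hI : adequate R I :=
      adequate_kernel _ (adequate_underline N) (adequate_cokernel ψ (adequate_underline M) (adequate_underline N))
    obtain ⟨v, hv⟩ := mem_kernel (cokernel.π ψ) (amAlg A (k + 1)) (ψ.app (pt (amAlg A (k + 1))) w)
      (congrArg (fun χ : U R M ⟶ cokernel ψ => χ.app (pt (amAlg A (k + 1))) w) (cokernel.condition ψ))
    obtain ⟨t, ht⟩ := (ih hI v).1 (kernel_ι_injective (cokernel.π ψ) _ (by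
      rw [amD_natural, hv, hd, map_zero]))
    obtain ⟨m, hm⟩ := exists_of_image ψ (amAlg A k) t
    refine ⟨w - amD A (U R M) k m, ?_, ?_⟩
    · rw [map_sub, (exact_d_U A M k _).2 ⟨m, rfl⟩, sub_zero]
    · rw [map_sub, amD_natural, hm, ← amD_natural, ht, hv, sub_self]

end Groth.Agent.H02CA.Adq
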