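import Groth.Prelude.Def_Adeq
import Mathlib.Algebra.Category.ModuleCat.Presheaf.EpiMono
import Mathlib.Algebra.Homology.ShortComplex.ModuleCat
import Mathlib.Algebra.Homology.ShortComplex.PreservesHomology
import Mathlib.CategoryTheory.Abelian.Exact
import Mathlib.Algebra.Category.ModuleCat.Kernels
import Mathlib.Algebra.Category.ModuleCat.EpiMono

/-!
# Module valued functors on algebras, element by element
-/

set_option autoImplicit false
set_option linter.style.haveILetI false

universe u

open CategoryTheory Opposite Limits TensorProduct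

namespace Groth.Agent.H02CA.Adq

open Adeq

variable {A : Type u} [CommRing A]

/-- Evaluation at an algebra. -/
noncomputable def ev (B : Alg A) : MVF A ⥤ ModuleCat.{u + 1} ((ringOf A).obj (pt B)) :=
  PresheafOfModules.evaluation.{u + 1} (ringOf A) (pt B)

instance ev_preservesFiniteLimits (B : Alg A) : PreservesFiniteLimits (ev (A := A) B) :=
  PresheafOfModules.evaluation_preservesFiniteLimits.{u + 1} (ringOf A) (pt B)

instance ev_preservesFiniteColimits (B : Alg A) : PreservesFiniteColimits (ev (A := A) B) :=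
  PresheafOfModules.Finite.evaluation_preservesFiniteColimits.{u + 1} (ringOf A) (pt B)

instance ev_additive (B : Alg A) : (ev (A := A) B).Additive where
  map_add := rfl

lemma ev_map {F G : MVF A} (φ : F ⟶ G) (B : Alg A) : (ev B).map φ = φ.app (pt B) := rfl

lemma hom_ext {F G : MVF A} {φ ψ : F ⟶ G}
    (h : ∀ (B : Alg A) (x : F.obj (pt B)), φ.app (pt B) x = ψ.app (pt B) x) : φ = ψ :=
  PresheafOfModules.hom_ext fun X => ModuleCat.hom_ext (LinearMap.ext (h X.unop.unop))

lemma nat_apply {F G : MVF A} (φ : F ⟶ G) {B B' : Alg A} (f : B ⟶ B') (x : F.obj (pt B)) :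
    φ.app (pt B') (F.map (ptHom f) x) = G.map (ptHom f) (φ.app (pt B) x) :=
  PresheafOfModules.naturality_apply φ (ptHom f) x

lemma map_smul' (F : MVF A) {B B' : Alg A} (f : B ⟶ B') (b : B) (x : F.obj (pt B)) :
    F.map (ptHom f) (b • x) = f.hom b • (F.map (ptHom f) x : F.obj (pt B')) :=
  PresheafOfModules.map_smul F (ptHom f) b x

lemma map_comp' (F : MVF A) {B B' B'' : Alg A} (f : B ⟶ B') (g : B' ⟶ B'') (x : F.obj (pt B)) :
    F.map (ptHom (f ≫ g)) x = F.map (ptHom g) (F.map (ptHom f) x) :=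
  PresheafOfModules.map_comp_apply F (ptHom f) (ptHom g) x

lemma map_id' (F : MVF A) (B : Alg A) (x : F.obj (pt B)) : F.map (ptHom (𝟙 B)) x = x := by
  have h := F.map_id (pt B)
  show (F.map (𝟙 (pt B))) x = x
  rw [h]
  rfl

/-- Isomorphisms are detected value by value. -/
lemma isIso_of_bijective {F G : MVF A} (φ : F ⟶ G)
    (h : ∀ B : Alg A, Function.Bijective (φ.app (pt B))) : IsIso φ := by
  haveI : ∀ X, IsIso (φ.app X) := fun X => (ConcreteCategory.isIso_iff_bijective (φ.app X)).2 (h X.unop.unop)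
  exact ⟨(PresheafOfModules.isoMk (fun X => asIso (φ.app X)) fun _ _ f => φ.naturality f).inv,
    PresheafOfModules.hom_ext fun X => IsIso.hom_inv_id (φ.app X),
    PresheafOfModules.hom_ext fun X => IsIso.inv_hom_id (φ.app X)⟩

lemma mono_iff_injective {F G : MVF A} (φ : F ⟶ G) :
    Mono φ ↔ ∀ B : Alg A, Function.Injective (φ.app (pt B)) :=
  ⟨fun _ B => (ModuleCat.mono_iff_injective (φ.app (pt B))).1
      (inferInstanceAs (Mono ((ev B).map φ))),
    fun h => PresheafOfModules.mono_of_injective (fun X => h X.unop.unop)⟩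

lemma epi_iff_surjective {F G : MVF A} (φ : F ⟶ G) :
    Epi φ ↔ ∀ B : Alg A, Function.Surjective (φ.app (pt B)) :=
  ⟨fun _ B => (ModuleCat.epi_iff_surjective (φ.app (pt B))).1
      (inferInstanceAs (Epi ((ev B).map φ))),
    fun h => PresheafOfModules.epi_of_surjective (fun X => h X.unop.unop)⟩

/-- Elements killed by a map come from the kernel. -/
lemma mem_kernel {F G : MVF A} (φ : F ⟶ G) (B : Alg A) (x : F.obj (pt B))
    (hx : φ.app (pt B) x = 0) : ∃ y : (kernel φ).obj (pt B), (kernel.ι φ).app (pt B) y = x := by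
  have hS : (ShortComplex.mk (kernel.ι φ) φ (kernel.condition φ)).Exact :=
    ShortComplex.exact_of_f_is_kernel _ (kernelIsKernel φ)
  exact (ShortComplex.moduleCat_exact_iff _).1
    (hS.map (ev B)) x hx

lemma kernel_condition_apply {F G : MVF A} (φ : F ⟶ G) (B : Alg A) (y : (kernel φ).obj (pt B)) :
    φ.app (pt B) ((kernel.ι φ).app (pt B) y) = 0 :=
  congrArg (fun ψ : kernel φ ⟶ G => ψ.app (pt B) y) (kernel.condition φ)

lemma kernel_ι_injective {F G : MVF A} (φ : F ⟶ G) (B : Alg A) :
    Function.Injective ((kernel.ι φ).app (pt B)) :=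
  (mono_iff_injective (kernel.ι φ)).1 inferInstance B

lemma exact_cokernel {F G : MVF A} (φ : F ⟶ G) (B : Alg A) (x : G.obj (pt B))
    (hx : (cokernel.π φ).app (pt B) x = 0) : ∃ y : F.obj (pt B), φ.app (pt B) y = x := by
  have hS : (ShortComplex.mk φ (cokernel.π φ) (cokernel.condition φ)).Exact :=
    ShortComplex.exact_of_g_is_cokernel _ (cokernelIsCokernel φ)
  exact (ShortComplex.moduleCat_exact_iff _).1
    (hS.map (ev B)) x hx

/-- A kernel, recognized value by value. -/
lemma nonempty_iso_kernel {F G K : MVF A} (ι : K ⟶ F) (φ : F ⟶ G) (w : ι ≫ φ = 0)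
    (hinj : ∀ B : Alg A, Function.Injective (ι.app (pt B)))
    (hex : ∀ (B : Alg A) (x : F.obj (pt B)), φ.app (pt B) x = 0 → ∃ y, ι.app (pt B) y = x) :
    Nonempty (K ≅ kernel φ) := by
  haveI : IsIso (kernel.lift φ ι w) := isIso_of_bijective _ fun B => by
    have hl : ∀ y : K.obj (pt B),
        (kernel.ι φ).app (pt B) ((kernel.lift φ ι w).app (pt B) y) = ι.app (pt B) y := fun y =>
      congrArg (fun ψ : K ⟶ F => ψ.app (pt B) y) (kernel.lift_ι φ ι w)
    refine ⟨fun y y' h => hinj B ?_, fun z => ?_⟩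
    · rw [← hl y, ← hl y', h]
    · obtain ⟨y, hy⟩ := hex B _ (kernel_condition_apply φ B z)
      exact ⟨y, kernel_ι_injective φ B (by rw [hl y, hy])⟩
  exact ⟨asIso (kernel.lift φ ι w)⟩

/-- A cokernel, recognized value by value. -/
lemma nonempty_iso_cokernel {F G Q : MVF A} (φ : F ⟶ G) (π : G ⟶ Q) (w : φ ≫ π = 0)
    (hsurj : ∀ B : Alg A, Function.Surjective (π.app (pt B)))
    (hex : ∀ (B : Alg A) (x : G.obj (pt B)), π.app (pt B) x = 0 → ∃ y, φ.app (pt B) y = x) :
    Nonempty (cokernel φ ≅ Q) := by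
  haveI : IsIso (cokernel.desc φ π w) := isIso_of_bijective _ fun B => by
    have hl : ∀ y : G.obj (pt B),
        (cokernel.desc φ π w).app (pt B) ((cokernel.π φ).app (pt B) y) = π.app (pt B) y := fun y =>
      congrArg (fun ψ : G ⟶ Q => ψ.app (pt B) y) (cokernel.π_desc φ π w)
    have hs := (epi_iff_surjective (cokernel.π φ)).1 inferInstance B
    refine ⟨(injective_iff_map_eq_zero ((cokernel.desc φ π w).app (pt B)).hom).2 fun z hz => ?_,
      fun q => ?_⟩
    · obtain ⟨x, rfl⟩ := hs z
      obtain ⟨y, rfl⟩ := hex B x ((hl x).symm.trans hz)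
      exact congrArg (fun ψ : F ⟶ cokernel φ => ψ.app (pt B) y) (cokernel.condition φ)
    · obtain ⟨x, rfl⟩ := hsurj B q
      exact ⟨_, hl x⟩
  exact ⟨asIso (cokernel.desc φ π w)⟩

section Underline

/-- Elements of the values of the functor of a module, as tensors. -/
noncomputable abbrev U (A : Type u) [CommRing A] (M : ModuleCat.{u + 1} A) : MVF A := (underline A).obj M

/-- A tensor as an element of a value. -/
def tmk (M : ModuleCat.{u + 1} A) (B : Alg A) (x : (B : Type u) ⊗[A] M) : (U A M).obj (pt B) := x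

lemma u_map_apply (M : ModuleCat.{u + 1} A) {B B' : Alg A} (f : B ⟶ B') (x : (B : Type u) ⊗[A] M) :
    (U A M).map (ptHom f) (tmk M B x) = tmk M B' (f.hom.toLinearMap.rTensor M x) := rfl

lemma u_app_apply {M N : ModuleCat.{u + 1} A} (g : M ⟶ N) (B : Alg A) (x : (B : Type u) ⊗[A] M) :
    ((underline A).map g).app (pt B) (tmk M B x) = tmk N B (g.hom.baseChange B x) := rfl

end Underline

end Groth.Agent.H02CA.Adq
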