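import Groth.Agent.H02CA.Adeq.Base
import Groth.Agent.H02CA.Adeq.Univ
import Mathlib.RingTheory.Flat.Basic
import Mathlib.RingTheory.RingHom.Flat
import Mathlib.RingTheory.Localization.Away.Basic

/-!
# Flat base change for adequate functors
-/

set_option autoImplicit false
set_option linter.style.haveILetI false

universe u

open CategoryTheory Opposite Limits TensorProduct

namespace Groth.Agent.H02CA.Adq

open Adeq

variable {A : Type u} [CommRing A]

section Linear

variable {B B' : Alg A} (f : B ⟶ B')

/-- The values over the target as modules over the source. -/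
abbrev valModule (F : MVF A) : Module (B : Type u) (F.obj (pt B')) :=
  Module.compHom (F.obj (pt B')) f.hom.toRingHom

/-- The target as an algebra over the source. -/
abbrev homAlgebra : Algebra (B : Type u) (B' : Type u) := f.hom.toRingHom.toAlgebra

lemma valTower (F : MVF A) :
    letI := homAlgebra f
    letI := valModule f F
    IsScalarTower (B : Type u) (B' : Type u) (F.obj (pt B')) :=
  letI := homAlgebra f
  letI := valModule f F
  IsScalarTower.of_algebraMap_smul fun _ _ => rfl

/-- A transition map as a linear map. -/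
noncomputable def transL (F : MVF A) :
    letI := valModule f F
    (F.obj (pt B) : Type (u + 1)) →ₗ[(B : Type u)] F.obj (pt B') :=
  letI := valModule f F
  { toFun := fun x => mp F f x
    map_add' := fun x y => map_add (mp F f) x y
    map_smul' := fun b x => mp_smul F f b x }

/-- The base change map on tensors. -/
noncomputable def bcL (F : MVF A) :
    letI := homAlgebra f
    (B' : Type u) ⊗[(B : Type u)] (F.obj (pt B)) →ₗ[(B' : Type u)] F.obj (pt B') :=
  letI := homAlgebra f
  letI := valModule f F
  haveI := valTower f F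
  (transL f F).liftBaseChange (B' : Type u)

lemma bcL_tmul (F : MVF A) (b : B') (x : F.obj (pt B)) :
    letI := homAlgebra f
    bcL f F (b ⊗ₜ[(B : Type u)] x) = b • mp F f x :=
  rfl

lemma bc_apply (F : MVF A) :
    letI := homAlgebra f
    ∀ z : (B' : Type u) ⊗[(B : Type u)] (F.obj (pt B)), (F.bc f).hom z = bcL f F z := by
  letI := homAlgebra f
  intro z
  induction z using TensorProduct.induction_on with
  | zero => exact (map_zero (F.bc f).hom).trans (map_zero (bcL f F)).symm
  | tmul b x =>
    rw [bcL_tmul]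
    rfl
  | add y y' hy hy' =>
    exact ((map_add (F.bc f).hom y y').trans (congrArg₂ (· + ·) hy hy')).trans
      (map_add (bcL f F) y y').symm

lemma bcL_natural {F G : MVF A} (φ : F ⟶ G) :
    letI := homAlgebra f
    ∀ z : (B' : Type u) ⊗[(B : Type u)] (F.obj (pt B)),
      φ.app (pt B') (bcL f F z) =
        bcL f G (LinearMap.lTensor (B' : Type u) ((φ.app (pt B)).hom : _ →ₗ[(B : Type u)] _) z) := by
  letI := homAlgebra f
  intro z
  induction z using TensorProduct.induction_on with
  | zero => simp only [map_zero]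
  | tmul b x =>
    rw [bcL_tmul, LinearMap.lTensor_tmul, bcL_tmul, map_smul, nat_mp]
  | add y y' hy hy' => simp only [map_add, hy, hy']

lemma bcL_U_bijective (M : ModuleCat.{u + 1} A) :
    letI := homAlgebra f
    Function.Bijective (bcL f (U A M)) := by
  letI := homAlgebra f
  haveI : IsScalarTower A (B : Type u) (B' : Type u) :=
    IsScalarTower.of_algebraMap_eq fun a => (f.hom.commutes a).symm
  let e := TensorProduct.AlgebraTensorModule.cancelBaseChange A (B : Type u) (B' : Type u) (B' : Type u) M
  suffices h : ∀ z : (B' : Type u) ⊗[(B : Type u)] ((B : Type u) ⊗[A] M),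
      (bcL f (U A M) z : (B' : Type u) ⊗[A] M) = e z by
    exact (funext h : (bcL f (U A M) : _ → _) = e) ▸ e.bijective
  intro z
  induction z using TensorProduct.induction_on with
  | zero => exact (map_zero (bcL f (U A M))).trans (map_zero e).symm
  | tmul b y =>
    induction y using TensorProduct.induction_on with
    | zero => rw [TensorProduct.tmul_zero]; exact (map_zero (bcL f (U A M))).trans (map_zero e).symm
    | tmul c m =>
      rw [TensorProduct.AlgebraTensorModule.cancelBaseChange_tmul]
      change b • (f.hom c ⊗ₜ[A] m) = (c • b) ⊗ₜ[A] m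
      rw [TensorProduct.smul_tmul']
      exact congrArg (fun t => t ⊗ₜ[A] m) (mul_comm b (f.hom c))
    | add y y' hy hy' =>
      rw [TensorProduct.tmul_add]
      exact ((map_add (bcL f (U A M)) _ _).trans (congrArg₂ (· + ·) hy hy')).trans (map_add e _ _).symm
  | add y y' hy hy' =>
    exact ((map_add (bcL f (U A M)) _ _).trans (congrArg₂ (· + ·) hy hy')).trans (map_add e _ _).symm

theorem bcL_bijective {F : MVF A} (hF : adequate A F) (hf : f.hom.toRingHom.Flat) :
    letI := homAlgebra f
    Function.Bijective (bcL f F) := by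
  letI := homAlgebra f
  haveI : Module.Flat (B : Type u) (B' : Type u) := hf
  obtain ⟨M, N, φ, ⟨i⟩⟩ := hF
  let ι : F ⟶ U A M := i.hom ≫ kernel.ι _
  let ψ : U A M ⟶ U A N := (underline A).map φ
  have hι : ∀ C : Alg A, Function.Injective (ι.app (pt C)) := (mono_iff_injective ι).1 inferInstance
  have hιψ : ∀ (C : Alg A) (y : F.obj (pt C)), ψ.app (pt C) (ι.app (pt C) y) = 0 := fun C y =>
    kernel_condition_apply ψ C (i.hom.app (pt C) y)
  have hex : ∀ (C : Alg A) (w : (U A M).obj (pt C)), ψ.app (pt C) w = 0 → ∃ y, ι.app (pt C) y = w := by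
    intro C w hw
    obtain ⟨y, hy⟩ := mem_kernel ψ C w hw
    refine ⟨i.inv.app (pt C) y, ?_⟩
    refine (congrArg ((kernel.ι ψ).app (pt C))
      (congrArg (fun χ : kernel ψ ⟶ kernel ψ => χ.app (pt C) y) i.inv_hom_id)).trans ?_
    exact hy
  let gι : (F.obj (pt B) : Type (u + 1)) →ₗ[(B : Type u)] (U A M).obj (pt B) := (ι.app (pt B)).hom
  let gψ : ((U A M).obj (pt B) : Type (u + 1)) →ₗ[(B : Type u)] (U A N).obj (pt B) := (ψ.app (pt B)).hom
  have hinj : Function.Injective (gι.lTensor (B' : Type u)) :=
    Module.Flat.lTensor_preserves_injective_linearMap gι (hι B)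
  have hexact : Function.Exact (gι.lTensor (B' : Type u)) (gψ.lTensor (B' : Type u)) :=
    Module.Flat.lTensor_exact (B' : Type u) fun w =>
      ⟨fun hw => hex B w hw, fun ⟨y, hy⟩ => hy ▸ hιψ B y⟩
  refine ⟨(injective_iff_map_eq_zero (bcL f F)).2 fun z hz => ?_, fun y => ?_⟩
  · apply hinj
    apply (bcL_U_bijective f M).1
    refine (bcL_natural f ι z).symm.trans ?_
    rw [hz, map_zero, map_zero, map_zero]
  · obtain ⟨w, hw⟩ := (bcL_U_bijective f M).2 (ι.app (pt B') y)
    have h0 : gψ.lTensor (B' : Type u) w = 0 := by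
      apply (bcL_U_bijective f N).1
      refine (bcL_natural f ψ w).symm.trans ?_
      rw [hw, hιψ, map_zero]
    obtain ⟨z, hz⟩ := (hexact w).1 h0
    refine ⟨z, hι B' ?_⟩
    refine (bcL_natural f ι z).trans ?_
    exact (congrArg (bcL f (U A M)) hz).trans hw

/-- Flat base change for adequate functors. -/
theorem isIso_bc {F : MVF A} (hF : adequate A F) (hf : f.hom.toRingHom.Flat) : IsIso (F.bc f) := by
  letI := homAlgebra f
  rw [ConcreteCategory.isIso_iff_bijective]
  have h := bcL_bijective f hF hf
  exact (funext (bc_apply f F) : ((F.bc f).hom : _ → _) = bcL f F) ▸ h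

lemma smul_eq_zero_of_map_eq_zero {G : MVF A} (b : B) [IsIso (G.bc f)]
    (hloc : letI := homAlgebra f; IsLocalization.Away b (B' : Type u))
    (w : G.obj (pt B)) (hw : mp G f w = 0) : ∃ n : ℕ, b ^ n • w = 0 := by
  letI := homAlgebra f
  haveI := hloc
  have hbij : Function.Bijective (bcL f G) := by
    have h : Function.Bijective (G.bc f).hom := ConcreteCategory.bijective_of_isIso (G.bc f)
    exact (funext (bc_apply f G) : ((G.bc f).hom : _ → _) = bcL f G) ▸ h
  have h1 : ((1 : B') ⊗ₜ[(B : Type u)] w) = 0 := by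
    apply hbij.1
    rw [bcL_tmul, hw, smul_zero, map_zero]
  obtain ⟨⟨s, n, rfl⟩, hs⟩ :=
    (IsLocalizedModule.eq_zero_iff (Submonoid.powers b)
      (TensorProduct.mk (B : Type u) (B' : Type u) (G.obj (pt B)) 1)).1 h1
  exact ⟨n, hs⟩

end Linear

/-- Localisation at an element as an algebra. -/
noncomputable abbrev awayOf (B : Alg A) (b : B) : Alg A := algOf A (Localization.Away b)

/-- The map to a localisation. -/
noncomputable abbrev awayMap (B : Alg A) (b : B) : B ⟶ awayOf B b :=
  CommAlgCat.ofHom (IsScalarTower.toAlgHom A (B : Type u) (Localization.Away b))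

lemma homAlgebra_away (B : Alg A) (b : B) :
    homAlgebra (awayMap B b) = OreLocalization.instAlgebra :=
  Algebra.algebra_ext _ _ fun _ => rfl

lemma flat_away (B : Alg A) (b : B) : (awayMap B b).hom.toRingHom.Flat := by
  have h : @Module.Flat (B : Type u) (Localization.Away b) _ _
      (OreLocalization.instAlgebra : Algebra (B : Type u) (Localization.Away b)).toModule :=
    IsLocalization.flat (Localization.Away b) (Submonoid.powers b)
  rw [← homAlgebra_away B b] at h
  exact h

lemma isLocalization_away (B : Alg A) (b : B) :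
    letI := homAlgebra (awayMap B b)
    IsLocalization.Away b (awayOf B b : Type u) := by
  rw [homAlgebra_away B b]
  infer_instance

/-- Additive natural maps commuting with units are linear. -/
theorem smul_comm_of_units (F G : MVF A) (φ : ∀ B : Alg A, F.obj (pt B) → G.obj (pt B))
    (hnat : ∀ ⦃B B' : Alg A⦄ (f : B ⟶ B') (x : F.obj (pt B)),
      φ B' (F.map (ptHom f) x) = G.map (ptHom f) (φ B x))
    (hadd : ∀ (B : Alg A) (x y : F.obj (pt B)), φ B (x + y) = φ B x + φ B y)
    (hunit : ∀ (B : Alg A) (v : (B : Type u)ˣ) (x : F.obj (pt B)), φ B ((v : B) • x) = (v : B) • φ B x)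
    (hG : ∀ ⦃B B' : Alg A⦄ (f : B ⟶ B'), f.hom.toRingHom.Flat → IsIso (G.bc f))
    (B : Alg A) (b : B) (x : F.obj (pt B)) : φ B (b • x) = b • φ B x := by
  have key : ∀ c : B, ∃ n : ℕ, c ^ n • (φ B (c • x) - c • φ B x) = 0 := by
    intro c
    haveI := hG (awayMap B c) (flat_away B c)
    refine smul_eq_zero_of_map_eq_zero (awayMap B c) c (isLocalization_away B c) _ ?_
    have hu : IsUnit ((awayMap B c).hom c : (awayOf B c : Type u)) :=
      IsLocalization.Away.algebraMap_isUnit (S := Localization.Away c) c
    obtain ⟨v, hv⟩ := hu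
    have h : φ (awayOf B c) (mp F (awayMap B c) (c • x)) = mp G (awayMap B c) (φ B (c • x)) :=
      hnat (awayMap B c) _
    have h' : φ (awayOf B c) (mp F (awayMap B c) x) = mp G (awayMap B c) (φ B x) :=
      hnat (awayMap B c) _
    rw [map_sub, mp_smul, ← h, ← h', mp_smul, ← hv, hunit, sub_self]
  have e : φ B ((1 - b) • x) - (1 - b) • φ B x = -(φ B (b • x) - b • φ B x) := by
    have h := hadd B ((1 - b) • x) (b • x)
    rw [← add_smul, sub_add_cancel, one_smul] at h
    rw [sub_smul (1 : (B : Type u)) b (φ B x), one_smul, h]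
    abel
  obtain ⟨n, hn⟩ := key b
  obtain ⟨m, hm⟩ := key (1 - b)
  rw [e, smul_neg, neg_eq_zero] at hm
  obtain ⟨r, s, hrs⟩ : IsCoprime (b ^ n) ((1 - b) ^ m) :=
    IsCoprime.pow (⟨1, 1, by ring⟩ : IsCoprime (b : (B : Type u)) (1 - b))
  have h0 : φ B (b • x) - b • φ B x = 0 := by
    calc φ B (b • x) - b • φ B x = (r * b ^ n + s * (1 - b) ^ m) • (φ B (b • x) - b • φ B x) := by
          rw [hrs, one_smul]
      _ = 0 := by rw [add_smul, mul_smul, mul_smul, hn, hm, smul_zero, smul_zero, add_zero]
  exact sub_eq_zero.1 h0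

end Groth.Agent.H02CA.Adq
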