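import Groth.Agent.H02CA.Adeq.Change
import Groth.Agent.H02CA.Adeq.Univ
import Mathlib.CategoryTheory.Limits.Shapes.Biproducts

/-!
# Descent of adequacy along finite families of algebras
-/

set_option autoImplicit false
set_option linter.style.haveILetI false

universe u

open CategoryTheory Opposite Limits TensorProduct

namespace Groth.Agent.H02CA.Adq

open Adeq

variable {A : Type u} [CommRing A]

instance hasFiniteBiproducts_mvf : HasFiniteBiproducts (MVF A) := Abelian.hasFiniteBiproducts

/-- Values glue along a finite family of maps of algebras. -/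
structure Glue (F : MVF A) {B : Alg A} {ι : Type} (C : ι → Alg A) (f : ∀ j, B ⟶ C j) : Prop where
  sep : ∀ x : F.obj (pt B), (∀ j, mp F (f j) x = 0) → x = 0
  glue : ∀ y : ∀ j, F.obj (pt (C j)),
    (∀ (j k : ι) (D : Alg A) (g : C j ⟶ D) (h : C k ⟶ D), f j ≫ g = f k ≫ h → mp F g (y j) = mp F h (y k)) →
      ∃ x : F.obj (pt B), ∀ j, mp F (f j) x = y j

/-- Base change of algebras, seen over the original ring. -/
noncomputable def bcr (A' : Type u) [CommRing A'] [Algebra A A'] (B : Alg A) : Alg A :=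
  (Adeq.Alg.restr A A').obj ((Adeq.Alg.baseChange A A').obj B)

/-- The unit into a base change. -/
noncomputable def bunit (A' : Type u) [CommRing A'] [Algebra A A'] (B : Alg A) : B ⟶ bcr A' B :=
  Adeq.Alg.unit A A' B

/-- The functoriality of base changes. -/
noncomputable def bmap (A' : Type u) [CommRing A'] [Algebra A A'] {B B' : Alg A} (φ : B ⟶ B') :
    bcr A' B ⟶ bcr A' B' :=
  (Adeq.Alg.restr A A').map ((Adeq.Alg.baseChange A A').map φ)

lemma bunit_natural (A' : Type u) [CommRing A'] [Algebra A A'] {B B' : Alg A} (f : B ⟶ B') :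
    f ≫ bunit A' B' = bunit A' B ≫ bmap A' f :=
  unit_natural A A' f

section Desc

variable (A' : Type u) [CommRing A'] [Algebra A A']

/-- The left inclusion. -/
noncomputable def bcrLeft (B : Alg A) : A' →ₐ[A] (bcr A' B : Type u) :=
  let r : A' →+* (bcr A' B : Type u) :=
    (Algebra.TensorProduct.includeLeftRingHom (R := A) (A := A') (B := (B : Type u)))
  { r with commutes' := fun _ => rfl }

/-- Maps out of a base change. -/
noncomputable def bcrDesc {B D : Alg A} (v : A' →ₐ[A] (D : Type u)) (g : B ⟶ D) : bcr A' B ⟶ D :=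
  let l : A' ⊗[A] (B : Type u) →ₐ[A] (D : Type u) :=
    Algebra.TensorProduct.lift v g.hom fun _ _ => Commute.all _ _
  let r : (bcr A' B : Type u) →+* (D : Type u) := l.toRingHom
  ConcreteCategory.ofHom (C := Alg A) (X := bcr A' B) (Y := D)
    ({ r with
      commutes' := fun a => by
        change l ((algebraMap A A' a) ⊗ₜ[A] (1 : B)) = algebraMap A (D : Type u) a
        rw [Algebra.TensorProduct.lift_tmul, map_one, mul_one, AlgHom.commutes] } :
      (bcr A' B : Type u) →ₐ[A] (D : Type u))

lemma bcrDesc_left {B D : Alg A} (v : A' →ₐ[A] (D : Type u)) (g : B ⟶ D) (a : A') :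
    (bcrDesc A' v g).hom (bcrLeft A' B a) = v a := by
  change Algebra.TensorProduct.lift v g.hom (fun _ _ => Commute.all _ _) (a ⊗ₜ[A] (1 : B)) = v a
  rw [Algebra.TensorProduct.lift_tmul, map_one, mul_one]

lemma unit_bcrDesc {B D : Alg A} (v : A' →ₐ[A] (D : Type u)) (g : B ⟶ D) :
    bunit A' B ≫ bcrDesc A' v g = g := by
  apply CommAlgCat.hom_ext
  refine DFunLike.ext _ _ fun b => ?_
  change Algebra.TensorProduct.lift v g.hom (fun _ _ => Commute.all _ _) ((1 : A') ⊗ₜ[A] b) = g.hom b
  rw [Algebra.TensorProduct.lift_tmul, map_one, one_mul]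

lemma map_bcrDesc {B B' D : Alg A} (φ : B ⟶ B') (v : A' →ₐ[A] (D : Type u)) (g : B' ⟶ D) :
    bmap A' φ ≫ bcrDesc A' v g =
      bcrDesc A' v (φ ≫ g) := by
  apply CommAlgCat.hom_ext
  refine DFunLike.ext _ _ fun z => ?_
  change Algebra.TensorProduct.lift v g.hom (fun _ _ => Commute.all _ _)
      (Algebra.TensorProduct.map (AlgHom.id A' A') φ.hom z) =
    Algebra.TensorProduct.lift v (φ ≫ g).hom (fun _ _ => Commute.all _ _) (z : A' ⊗[A] (B : Type u))
  induction (z : A' ⊗[A] (B : Type u)) using TensorProduct.induction_on with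
  | zero => simp only [map_zero]
  | tmul a b =>
    rw [Algebra.TensorProduct.map_tmul, Algebra.TensorProduct.lift_tmul, Algebra.TensorProduct.lift_tmul]
    rfl
  | add x y hx hy => simp only [map_add, hx, hy]

lemma bcr_hom_ext {B D : Alg A} {p q : bcr A' B ⟶ D}
    (hl : ∀ a : A', p.hom (bcrLeft A' B a) = q.hom (bcrLeft A' B a))
    (hr : bunit A' B ≫ p = bunit A' B ≫ q) : p = q := by
  apply CommAlgCat.hom_ext
  refine DFunLike.ext _ _ fun z => ?_
  induction (z : A' ⊗[A] (B : Type u)) using TensorProduct.induction_on with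
  | zero => exact (map_zero p.hom).trans (map_zero q.hom).symm
  | tmul a b =>
    have hb : p.hom ((bunit A' B).hom b) = q.hom ((bunit A' B).hom b) :=
      congrArg (fun h : B ⟶ D => h.hom b) hr
    have e : (a ⊗ₜ[A] b : A' ⊗[A] (B : Type u)) = (a ⊗ₜ[A] (1 : B)) * ((1 : A') ⊗ₜ[A] b) := by
      rw [Algebra.TensorProduct.tmul_mul_tmul, mul_one, one_mul]
    have e' : ∀ r : bcr A' B ⟶ D, r.hom (a ⊗ₜ[A] b : A' ⊗[A] (B : Type u)) =
        r.hom (bcrLeft A' B a) * r.hom ((bunit A' B).hom b) := fun r =>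
      (congrArg (fun t : A' ⊗[A] (B : Type u) => r.hom t) e).trans (map_mul r.hom _ _)
    rw [e' p, e' q, hl, hb]
  | add x y hx hy => exact (map_add p.hom _ _).trans ((congrArg₂ (· + ·) hx hy).trans (map_add q.hom _ _).symm)

end Desc

/-- Finite biproducts of adequate functors. -/
theorem adequate_finite_biproduct {ι : Type} [Finite ι] (X : ι → MVF A) (hX : ∀ i, adequate A (X i)) :
    adequate A (⨁ X) :=
  (adequate A).prop_of_iso
    ((Sigma.whiskerEquiv (f := fun i : ULift.{u + 1} ι => X i.down) (g := X) Equiv.ulift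
      (fun _ => Iso.refl _)).trans (biproduct.isoCoproduct X).symm)
    (adequate_coproduct _ fun i => hX i.down)

lemma biproduct_π_ι_apply {ι : Type} [Finite ι] (X : ι → MVF A) (B : Alg A) (z : (⨁ X).obj (pt B))
    (h : ∀ i, (biproduct.π X i).app (pt B) z = 0) : z = 0 := by
  haveI := Fintype.ofFinite ι
  have h' := congrArg ((ev B).map) (biproduct.total (f := X))
  rw [Functor.map_sum, CategoryTheory.Functor.map_id] at h'
  have h'' := congrArg (fun k : (ev B).obj (⨁ X) ⟶ (ev B).obj (⨁ X) => k.hom z) h'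
  rw [ModuleCat.hom_sum, LinearMap.sum_apply] at h''
  refine h''.symm.trans (Finset.sum_eq_zero fun i _ => ?_)
  exact (congrArg ((biproduct.ι X i).app (pt B)) (h i)).trans (map_zero _)

variable {ι : Type} [Finite ι] (A' : ι → Type u) [∀ j, CommRing (A' j)] [∀ j, Algebra A (A' j)]

/-- Adequacy descends along a finite family along which the functor glues. -/
theorem adequate_of_family (F : MVF A) (h₁ : ∀ j, adequate (A' j) ((Adeq.restr A (A' j)).obj F))
    (h₂ : ∀ B : Alg A, Glue F (fun j => bcr (A' j) B) (fun j => bunit (A' j) B)) :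
    adequate A F := by
  let P : ι → MVF A := fun j => (Adeq.push A (A' j)).obj ((Adeq.restr A (A' j)).obj F)
  let Q : ι × ι → MVF A := fun p => (Adeq.push A (A' p.2)).obj ((Adeq.restr A (A' p.2)).obj (P p.1))
  have hP : ∀ j, adequate A (P j) := fun j => adequate_push' A (A' j) (h₁ j)
  have hQ : ∀ p, adequate A (Q p) := fun p =>
    adequate_push' A (A' p.2) (adequate_restr' A (A' p.2) (hP p.1))
  let e : F ⟶ ⨁ P := biproduct.lift fun j => unitMap A (A' j) F
  let d : (⨁ P) ⟶ ⨁ Q := biproduct.lift fun p =>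
    biproduct.π P p.1 ≫ unitMap A (A' p.2) (P p.1) -
      biproduct.π P p.2 ≫ (Adeq.push A (A' p.2)).map ((Adeq.restr A (A' p.2)).map (unitMap A (A' p.1) F))
  let cp : ∀ (B : Alg A) (j : ι), (⨁ P).obj (pt B) → F.obj (pt (bcr (A' j) B)) := fun B j z =>
    (biproduct.π P j).app (pt B) z
  let cq : ∀ (B : Alg A) (j k : ι), (⨁ Q).obj (pt B) → F.obj (pt (bcr (A' j) (bcr (A' k) B))) :=
    fun B j k z => (biproduct.π Q (j, k)).app (pt B) z
  have he : ∀ (B : Alg A) (x : F.obj (pt B)) (j : ι),
      cp B j (e.app (pt B) x) = mp F (bunit (A' j) B) x := fun B x j =>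
    congrArg (fun χ : F ⟶ P j => χ.app (pt B) x) (biproduct.lift_π (fun j => unitMap A (A' j) F) j)
  have hd : ∀ (B : Alg A) (z : (⨁ P).obj (pt B)) (j k : ι),
      cq B j k (d.app (pt B) z) =
        mp F (bmap (A' j) (bunit (A' k) B)) (cp B j z) -
          mp F (bunit (A' j) (bcr (A' k) B)) (cp B k z) := fun B z j k =>
    congrArg (fun χ : (⨁ P) ⟶ Q (j, k) => χ.app (pt B) z) (biproduct.lift_π (fun p : ι × ι =>
      biproduct.π P p.1 ≫ unitMap A (A' p.2) (P p.1) -
        biproduct.π P p.2 ≫ (Adeq.push A (A' p.2)).map ((Adeq.restr A (A' p.2)).map (unitMap A (A' p.1) F))) (j, k))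
  have w : e ≫ d = 0 := by
    refine hom_ext fun B x => biproduct_π_ι_apply Q B _ fun p => ?_
    obtain ⟨j, k⟩ := p
    change cq B j k (d.app (pt B) (e.app (pt B) x)) = (0 : F.obj (pt (bcr (A' j) (bcr (A' k) B))))
    rw [hd, he, he, ← mp_comp, ← mp_comp, bunit_natural, sub_self]
  have hinj : ∀ B : Alg A, Function.Injective (e.app (pt B)) := fun B =>
    (injective_iff_map_eq_zero (e.app (pt B)).hom).2 fun x hx => (h₂ B).sep x fun j => by
      refine (he B x j).symm.trans ?_
      exact (congrArg (cp B j) hx).trans (map_zero ((biproduct.π P j).app (pt B)).hom)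
  obtain ⟨i⟩ := nonempty_iso_kernel e d w hinj fun B z hz => by
    obtain ⟨x, hx⟩ := (h₂ B).glue (fun j => cp B j z) fun j k D g h hgh => by
      have e0 : mp F (bmap (A' j) (bunit (A' k) B)) (cp B j z) =
          mp F (bunit (A' j) (bcr (A' k) B)) (cp B k z) :=
        sub_eq_zero.1 ((hd B z j k).symm.trans
          ((congrArg (cq B j k) hz).trans (map_zero ((biproduct.π Q (j, k)).app (pt B)).hom)))
      have hh : bmap (A' j) (bunit (A' k) B) ≫
          bcrDesc (A' j) (g.hom.comp (bcrLeft (A' j) B)) h = g := by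
        rw [map_bcrDesc]
        refine bcr_hom_ext (A' j) (fun a => ?_) ?_
        · rw [bcrDesc_left]
          rfl
        · rw [unit_bcrDesc]
          exact hgh.symm
      rw [← hh, mp_comp, e0, ← mp_comp, unit_bcrDesc]
    refine ⟨x, sub_eq_zero.1 (biproduct_π_ι_apply P B _ fun j => ?_)⟩
    refine (map_sub ((biproduct.π P j).app (pt B)).hom _ _).trans ?_
    change cp B j (e.app (pt B) x) - cp B j z = (0 : F.obj (pt (bcr (A' j) B)))
    rw [he, hx, sub_self]
  exact (adequate A).prop_of_iso i.symm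
    (adequate_kernel d (adequate_finite_biproduct P hP) (adequate_finite_biproduct Q hQ))

end Groth.Agent.H02CA.Adq
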