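import Groth.Agent.H02CA.Adeq.Amitsur
import Groth.Agent.H02CA.Adeq.Family
import Mathlib.RingTheory.Flat.FaithfullyFlat.Basic
import Mathlib.LinearAlgebra.DirectSum.Finsupp

/-!
# Adequate functors and finite faithfully flat families
-/

set_option autoImplicit false
set_option linter.style.haveILetI false

universe u v

open CategoryTheory Opposite Limits TensorProduct

namespace Groth.Agent.H02CA.Adq

open Adeq
open Groth.Agent.H13Desc

variable {R : Type u} [CommRing R]

section Linear

variable {ι : Type} [Fintype ι] [DecidableEq ι] {D : Type u} [AddCommGroup D] [Module R D]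
  {A : ι → Type u} [∀ i, AddCommGroup (A i)] [∀ i, Module R (A i)]
  (p : ∀ i, D →ₗ[R] A i)

lemma bijective_rTensor_of_bijective (hp : Function.Bijective fun d i => p i d)
    (N : Type v) [AddCommGroup N] [Module R N] :
    Function.Bijective fun (z : D ⊗[R] N) i => (p i).rTensor N z := by
  let e : D ≃ₗ[R] ∀ i, A i := LinearEquiv.ofBijective (LinearMap.pi p) hp
  let s : ∀ i, A i →ₗ[R] D := fun i => e.symm.toLinearMap ∘ₗ LinearMap.single R A i
  have hsum : ∀ z : D ⊗[R] N, ∑ i, (s i).rTensor N ((p i).rTensor N z) = z := by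
    intro z
    induction z using TensorProduct.induction_on with
    | zero => simp
    | tmul d n =>
      simp only [LinearMap.rTensor_tmul, ← TensorProduct.sum_tmul]
      congr 1
      apply e.injective
      simp [s, e, map_sum]
      funext j
      simp [Finset.sum_pi_single]
    | add a b ha hb => simp only [map_add, Finset.sum_add_distrib, ha, hb]
  have hps : ∀ i j (x : A i ⊗[R] N), (p j).rTensor N ((s i).rTensor N x) =
      (Pi.single i x : ∀ k, A k ⊗[R] N) j := by
    intro i j x
    induction x using TensorProduct.induction_on with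
    | zero => simp
    | tmul a n =>
      have h : p j (s i a) = (Pi.single i a : ∀ k, A k) j := congrFun (e.apply_symm_apply (Pi.single i a)) j
      rw [LinearMap.rTensor_tmul, LinearMap.rTensor_tmul, h]
      by_cases hij : j = i
      · subst hij; simp
      · simp [Pi.single_eq_of_ne hij]
    | add a b ha hb => simp only [map_add, ha, hb, Pi.single_add, Pi.add_apply]
  refine ⟨fun z z' h => ?_, fun y => ⟨∑ i, (s i).rTensor N (y i), funext fun j => ?_⟩⟩
  · rw [← hsum z, ← hsum z']
    exact Finset.sum_congr rfl fun i _ => congrArg ((s i).rTensor N) (congrFun h i)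
  · simp only [map_sum, hps]
    rw [Finset.sum_pi_single]
    simp

end Linear

/-- A family of maps of algebras that is a product decomposition. -/
def IsProdFam {B : Alg R} {ι : Type} (C : ι → Alg R) (f : ∀ j, B ⟶ C j) : Prop :=
  Function.Bijective fun (b : B) j => (f j).hom b

/-- An adequate functor turns finite products into products. -/
theorem bijective_of_isProdFam {F : MVF R} (hF : adequate R F) {B : Alg R} {ι : Type} [Finite ι]
    {C : ι → Alg R} {f : ∀ j, B ⟶ C j} (hf : IsProdFam C f) :
    Function.Bijective fun (x : F.obj (pt B)) j => mp F (f j) x := by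
  classical
  haveI := Fintype.ofFinite ι
  obtain ⟨M, N, φ, ⟨e⟩⟩ := hF
  let ψ : U R M ⟶ U R N := (underline R).map φ
  let κ : F ⟶ U R M := e.hom ≫ kernel.ι ψ
  have hκ : ∀ C : Alg R, Function.Injective (κ.app (pt C)) := (mono_iff_injective κ).1 inferInstance
  have hκψ : κ ≫ ψ = 0 := by rw [Category.assoc, kernel.condition, comp_zero]
  have hU : ∀ M : ModuleCat.{u + 1} R,
      Function.Bijective fun (x : (U R M).obj (pt B)) j => mp (U R M) (f j) x := fun M =>
    bijective_rTensor_of_bijective (fun j => (f j).hom.toLinearMap) hf M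
  refine ⟨fun x y h => hκ B ((hU M).1 (funext fun j => ?_)), fun y => ?_⟩
  · change mp (U R M) (f j) (κ.app (pt B) x) = mp (U R M) (f j) (κ.app (pt B) y)
    rw [← nat_mp, ← nat_mp]
    exact congrArg (κ.app (pt (C j))) (congrFun h j)
  · obtain ⟨m, hm⟩ := (hU M).2 fun j => κ.app (pt (C j)) (y j)
    have h0 : ψ.app (pt B) m = 0 := by
      refine (hU N).1 (funext fun j => ?_)
      change mp (U R N) (f j) (ψ.app (pt B) m) = mp (U R N) (f j) 0
      have hmj : mp (U R M) (f j) m = κ.app (pt (C j)) (y j) := congrFun hm j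
      rw [← nat_mp, hmj, map_zero]
      exact congrArg (fun χ : F ⟶ U R N => χ.app (pt (C j)) (y j)) hκψ
    obtain ⟨z, hz⟩ := mem_kernel ψ B m h0
    refine ⟨e.inv.app (pt B) z, funext fun j => hκ (C j) ?_⟩
    rw [nat_mp]
    refine Eq.trans (congrArg (mp (U R M) (f j)) ?_) (congrFun hm j)
    refine Eq.trans ?_ hz
    exact congrArg ((kernel.ι ψ).app (pt B))
      (congrArg (fun χ : kernel ψ ⟶ kernel ψ => χ.app (pt B) z) e.inv_hom_id)

section Single

variable (A : Type u) [CommRing A] [Algebra R A]

/-- The first term of the Amitsur complex is the algebra itself. -/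
noncomputable def toAm0 : algOf R A ⟶ amAlg (R := R) A 0 :=
  CommAlgCat.ofHom
    { (Amitsur.ι R A 0 0).hom with commutes' := Amitsur.ι_algebraMap R A 0 0 }

/-- The inverse of the identification. -/
noncomputable def ofAm0 : amAlg (R := R) A 0 ⟶ algOf R A :=
  CommAlgCat.ofHom ({ (pi0 (R := R) A).hom with commutes' := pi0_algebraMap A } : Amitsur.Y R A 0 →ₐ[R] A)

lemma toAm0_ofAm0 : toAm0 (R := R) A ≫ ofAm0 A = 𝟙 _ := by
  apply CommAlgCat.hom_ext
  exact DFunLike.ext _ _ fun b => ConcreteCategory.congr_hom (ι_pi0 (R := R) A) b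

/-- The structure map of an algebra. -/
noncomputable def ofIdHom (B : Alg R) : algOf R R ⟶ B := CommAlgCat.ofHom (Algebra.ofId R B)

lemma hom_ext_ofId {B : Alg R} (g g' : algOf R R ⟶ B) : g = g' :=
  CommAlgCat.hom_ext (Subsingleton.elim (α := R →ₐ[R] (B : Type u)) _ _)

/-- An adequate functor glues along a faithfully flat map. -/
theorem glue_ff {F : MVF R} (hF : adequate R F) [Module.FaithfullyFlat R A] :
    Glue F (fun _ : Unit => algOf R A) (fun _ => ofIdHom (algOf R A)) := by
  refine ⟨fun x hx => injective_aug A hF ?_, fun y hy => ?_⟩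
  · rw [hom_ext_ofId (amAug A) (ofIdHom (algOf R A) ≫ toAm0 A), mp_comp, hx (), map_zero, map_zero]
  · have h0 : amD A F 0 (mp F (toAm0 A) (y ())) = 0 := by
      have e := hy () () (amAlg A 1) (toAm0 A ≫ amδ A 0 0) (toAm0 A ≫ amδ A 0 1) (hom_ext_ofId _ _)
      rw [mp_comp, mp_comp] at e
      rw [amD_apply, Fin.sum_univ_two]
      simp [e]
    obtain ⟨x, hx⟩ := (exact_aug A hF _).1 h0
    refine ⟨x, fun _ => ?_⟩
    rw [hom_ext_ofId (ofIdHom (algOf R A)) (amAug A ≫ ofAm0 A), mp_comp, hx, ← mp_comp, toAm0_ofAm0, mp_id]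

end Single

section Fam

variable {ι : Type} [Finite ι] (A : ι → Type u) [∀ i, CommRing (A i)] [∀ i, Algebra R (A i)]

/-- The projection from the product. -/
noncomputable def projHom (i : ι) : algOf R (∀ i, A i) ⟶ algOf R (A i) := CommAlgCat.ofHom (Pi.evalAlgHom R A i)

lemma faithfullyFlat_pi' [∀ i, Module.Flat R (A i)]
    (hcov : ∀ p : PrimeSpectrum R, ∃ i, p ∈ Set.range (PrimeSpectrum.comap (algebraMap R (A i)))) :
    Module.FaithfullyFlat R (∀ i, A i) := by
  classical
  haveI := Fintype.ofFinite ι
  haveI : Module.Flat R (∀ i, A i) :=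
    Module.Flat.of_linearEquiv (DirectSum.linearEquivFunOnFintype R ι A).symm
  refine Module.FaithfullyFlat.of_comap_surjective fun p => ?_
  obtain ⟨i, q, hq⟩ := hcov p
  refine ⟨PrimeSpectrum.comap (Pi.evalRingHom A i) q, ?_⟩
  rw [← hq]
  rfl

/-- An adequate functor glues along a finite jointly faithfully flat family. -/
theorem glue_family {F : MVF R} (hF : adequate R F) [Module.FaithfullyFlat R (∀ i, A i)] :
    Glue F (fun i => algOf R (A i)) (fun i => ofIdHom (algOf R (A i))) := by
  classical
  haveI := Fintype.ofFinite ι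
  have hP : IsProdFam (B := algOf R (∀ i, A i)) (fun i => algOf R (A i)) (projHom A) :=
    Function.bijective_id
  have hg := glue_ff (∀ i, A i) hF
  refine ⟨fun x hx => hg.sep x fun _ => (bijective_of_isProdFam hF hP).1 (funext fun i => ?_), fun y hy => ?_⟩
  · change mp F (projHom A i) (mp F (ofIdHom _) x) = mp F (projHom A i) 0
    rw [← mp_comp, hom_ext_ofId (ofIdHom _ ≫ projHom A i) (ofIdHom (algOf R (A i))), hx i, map_zero]
  · obtain ⟨Y, hY⟩ := (bijective_of_isProdFam hF hP).2 y
    have hYj : ∀ j, mp F (projHom A j) Y = y j := congrFun hY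
    let T : Alg R := algOf R ((∀ i, A i) ⊗[R] (∀ i, A i))
    let l : algOf R (∀ i, A i) ⟶ T := CommAlgCat.ofHom Algebra.TensorProduct.includeLeft
    let r : algOf R (∀ i, A i) ⟶ T := CommAlgCat.ofHom Algebra.TensorProduct.includeRight
    let q : ∀ jk : ι × ι, T ⟶ algOf R (A jk.1 ⊗[R] A jk.2) := fun jk =>
      CommAlgCat.ofHom (Algebra.TensorProduct.map (Pi.evalAlgHom R A jk.1) (Pi.evalAlgHom R A jk.2))
    have hq : IsProdFam (B := T) (fun jk : ι × ι => algOf R (A jk.1 ⊗[R] A jk.2)) q := by
      have h1 := bijective_rTensor_of_bijective (R := R) (D := ∀ i, A i) (fun i => LinearMap.proj i)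
        Function.bijective_id (∀ i, A i)
      have h2 : ∀ j : ι, Function.Bijective fun (z : A j ⊗[R] (∀ i, A i)) k =>
          (LinearMap.proj k : (∀ i, A i) →ₗ[R] A k).lTensor (A j) z := by
        intro j
        have h := bijective_rTensor_of_bijective (R := R) (D := ∀ i, A i) (fun i => LinearMap.proj i)
          Function.bijective_id (A j)
        have hc : (fun (z : A j ⊗[R] (∀ i, A i)) k =>
            (LinearMap.proj k : (∀ i, A i) →ₗ[R] A k).lTensor (A j) z) =
            (fun w k => TensorProduct.comm R (A k) (A j) (w k)) ∘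
              (fun z k => (LinearMap.proj k : (∀ i, A i) →ₗ[R] A k).rTensor (A j) z) ∘
                (TensorProduct.comm R (A j) (∀ i, A i)) := by
          funext z k
          simp only [Function.comp_apply]
          induction z using TensorProduct.induction_on with
          | zero => simp
          | tmul a b => simp
          | add a b ha hb => simp only [map_add, ha, hb]
        rw [hc]
        exact (Function.Bijective.piMap fun k => (TensorProduct.comm R (A k) (A j)).bijective).comp
          (h.comp (TensorProduct.comm R _ _).bijective)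
      have e : (fun (t : T) (jk : ι × ι) => (q jk).hom t) =
          (fun (w : ∀ j k, A j ⊗[R] A k) (jk : ι × ι) => w jk.1 jk.2) ∘
            (fun w j k => (LinearMap.proj k : (∀ i, A i) →ₗ[R] A k).lTensor (A j) (w j)) ∘
              fun z j => (LinearMap.proj j : (∀ i, A i) →ₗ[R] A j).rTensor (∀ i, A i) z := by
        funext t jk
        induction (t : (∀ i, A i) ⊗[R] (∀ i, A i)) using TensorProduct.induction_on with
        | zero => exact (map_zero (q jk).hom).trans (by simp)
        | tmul a b => rfl
        | add a b ha hb => exact (map_add (q jk).hom a b).trans ((congrArg₂ (· + ·) ha hb).trans (by simp [map_add]))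
      change Function.Bijective fun (t : T) (jk : ι × ι) => (q jk).hom t
      rw [e]
      refine Function.Bijective.comp ?_ ((Function.Bijective.piMap h2).comp h1)
      exact ⟨fun w w' h => funext fun j => funext fun k => congrFun h (j, k),
        fun w => ⟨fun j k => w (j, k), rfl⟩⟩
    have hlr : mp F l Y = mp F r Y := by
      refine (bijective_of_isProdFam hF hq).1 (funext fun jk => ?_)
      change mp F (q jk) (mp F l Y) = mp F (q jk) (mp F r Y)
      rw [← mp_comp, ← mp_comp]
      have el : l ≫ q jk = projHom A jk.1 ≫ CommAlgCat.ofHom Algebra.TensorProduct.includeLeft := by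
        apply CommAlgCat.hom_ext
        exact Algebra.TensorProduct.map_comp_includeLeft _ _
      have er : r ≫ q jk = projHom A jk.2 ≫ CommAlgCat.ofHom Algebra.TensorProduct.includeRight := by
        apply CommAlgCat.hom_ext
        exact Algebra.TensorProduct.map_comp_includeRight _ _
      rw [el, er, mp_comp, mp_comp, hYj, hYj]
      exact hy jk.1 jk.2 _ _ _ (hom_ext_ofId _ _)
    obtain ⟨x, hx⟩ := hg.glue (fun _ => Y) fun _ _ D g h _ => by
      let t : T ⟶ D := CommAlgCat.ofHom (Algebra.TensorProduct.lift g.hom h.hom fun _ _ => Commute.all _ _)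
      have eg : l ≫ t = g := by
        apply CommAlgCat.hom_ext
        exact Algebra.TensorProduct.lift_comp_includeLeft _ _ (fun _ _ => Commute.all _ _)
      have eh : r ≫ t = h := by
        apply CommAlgCat.hom_ext
        exact Algebra.TensorProduct.lift_comp_includeRight' _ _ (fun _ _ => Commute.all _ _)
      rw [← eg, ← eh, mp_comp, mp_comp, hlr]
    refine ⟨x, fun j => ?_⟩
    rw [hom_ext_ofId (ofIdHom (algOf R (A j))) (ofIdHom _ ≫ projHom A j), mp_comp, hx (), hYj]

end Fam

end Groth.Agent.H02CA.Adq
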