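import Groth.Agent.H02CA.Adeq.Section
import Mathlib.Algebra.Homology.ShortComplex.ShortExact

/-!
# Extensions of adequate functors
-/

set_option autoImplicit false
set_option linter.style.haveILetI false

universe u

open CategoryTheory Opposite Limits TensorProduct

namespace Groth.Agent.H02CA.Adq

open Adeq

variable {A : Type u} [CommRing A]

theorem adequate_prod_underline_lin {M : ModuleCat.{u + 1} A} {L : MVF A} (hL : adequate A L) :
    adequate A (U A M ⊞ L) := by
  have h : ∀ i : ULift.{u + 1} Bool, adequate A (cond i.down (U A M) L) := fun ⟨i⟩ => by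
    cases i
    · exact hL
    · exact adequate_underline M
  refine (adequate A).prop_of_iso ?_ (adequate_coproduct _ h)
  exact
    { hom := Sigma.desc fun i => match i with
        | ⟨true⟩ => biprod.inl
        | ⟨false⟩ => biprod.inr
      inv := biprod.desc (Sigma.ι (fun i : ULift.{u + 1} Bool => cond i.down (U A M) L) ⟨true⟩)
        (Sigma.ι (fun i : ULift.{u + 1} Bool => cond i.down (U A M) L) ⟨false⟩)
      hom_inv_id := Sigma.hom_ext _ _ fun ⟨i⟩ => by cases i <;> simp
      inv_hom_id := by apply biprod.hom_ext' <;> simp }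

/-- Splitting of extensions by the functor of a module. -/
theorem split_of_lin (S : ShortComplex (MVF A)) (hS : S.ShortExact) (M : ModuleCat.{u + 1} A)
    (e : S.X₁ ≅ U A M) (hL : linAdequate A S.X₃) :
    Nonempty S.Splitting ∧ adequate A S.X₂ := by
  obtain ⟨P, P', φ₀, h1, h2, h3, h4, ⟨eL⟩⟩ := hL
  haveI := hS.mono_f
  haveI := hS.epi_g
  have hinj := (mono_iff_injective (e.inv ≫ S.f)).1 inferInstance
  have hsurj := (epi_iff_surjective (S.g ≫ eL.hom)).1 inferInstance
  obtain ⟨s, hs⟩ := exists_section (e.inv ≫ S.f) (S.g ≫ eL.hom) (by simp) hinj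
    (fun B z hz => by
      have hz' : S.g.app (pt B) z = 0 := by
        have h := congrArg (fun x => eL.inv.app (pt B) x) hz
        rw [map_zero] at h
        refine Eq.trans ?_ h
        exact (congrArg (fun χ : S.X₃ ⟶ S.X₃ => χ.app (pt B) (S.g.app (pt B) z)) eL.hom_inv_id).symm
      obtain ⟨m, hm⟩ := (ShortComplex.moduleCat_exact_iff _).1 (hS.exact.map (ev B)) z hz'
      refine ⟨e.hom.app (pt B) m, ?_⟩
      refine (congrArg (S.f.app (pt B)) (congrArg (fun χ : S.X₁ ⟶ S.X₁ => χ.app (pt B) m) e.hom_inv_id)).trans ?_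
      exact hm) hsurj
  let sp : S.Splitting := ShortComplex.Splitting.ofExactOfSection S hS.exact (eL.hom ≫ s)
    (by
      rw [Category.assoc, ← cancel_mono eL.hom]
      simp [hs]) inferInstance
  refine ⟨⟨sp⟩, ?_⟩
  have hL' : adequate A S.X₃ := ⟨P, P', φ₀, ⟨eL⟩⟩
  exact (adequate A).prop_of_iso (sp.isoBinaryBiproduct.trans (biprod.mapIso e (Iso.refl _))).symm
    (adequate_prod_underline_lin hL')

/-- Extensions of adequate functors. -/
theorem adequate_extension (S : ShortComplex (MVF A)) (hS : S.ShortExact) (h₁ : adequate A S.X₁)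
    (h₃ : adequate A S.X₃) : adequate A S.X₂ := by
  classical
  obtain ⟨M, N, ψ, ⟨e⟩⟩ := h₁
  haveI := hS.mono_f
  haveI := hS.epi_g
  let j : S.X₁ ⟶ U A M := e.hom ≫ kernel.ι _
  let G := pushout S.f j
  let i' : U A M ⟶ G := pushout.inr S.f j
  let p' : G ⟶ S.X₃ := pushout.desc S.g 0 (by rw [S.zero, comp_zero])
  haveI : Epi p' := epi_of_epi_fac (pushout.inl_desc S.g (0 : U A M ⟶ S.X₃) (by rw [S.zero, comp_zero]))
  haveI : Mono i' := Abelian.mono_pushout_of_mono_f S.f j
  haveI : Mono (pushout.inl S.f j) := Abelian.mono_pushout_of_mono_g S.f j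
  have hT : (ShortComplex.mk i' p' (pushout.inr_desc _ _ _)).Exact :=
    ShortComplex.exact_of_g_is_cokernel _ (CokernelCofork.IsColimit.ofπ' _ _ fun {W} k hk =>
      ⟨hS.exact.desc (pushout.inl _ _ ≫ k) (by rw [pushout.condition_assoc, hk, comp_zero]),
        pushout.hom_ext ((pushout.inl_desc_assoc _ _ _ _).trans (hS.exact.g_desc _ _))
          ((pushout.inr_desc_assoc _ _ _ _).trans (by rw [zero_comp]; exact hk.symm))⟩)
  choose P P' φ₀ h1 h2 h3 h4 π y hy using fun i : Σ B : Alg A, S.X₃.obj (pt B) => exists_lin h₃ i.1 i.2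
  have hlift : ∀ i, ∃ t : K (φ₀ i) ⟶ G, t ≫ p' = π i := fun i => by
    haveI := h1 i; haveI := h2 i; haveI := h4 i
    let Q := pullback p' (π i)
    let f : U A M ⟶ Q := pullback.lift i' 0 (by rw [pushout.inr_desc, zero_comp])
    have hf : f ≫ pullback.snd p' (π i) = 0 := pullback.lift_snd _ _ _
    haveI : Mono f := mono_of_mono_fac (pullback.lift_fst i' (0 : U A M ⟶ K (φ₀ i))
      (by rw [pushout.inr_desc, zero_comp]))
    have hQ : (ShortComplex.mk f (pullback.snd p' (π i)) hf).Exact :=
      ShortComplex.exact_of_f_is_kernel _ (KernelFork.IsLimit.ofι' _ _ fun {W} k hk =>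
        ⟨hT.lift (k ≫ pullback.fst p' (π i)) (by
            change (k ≫ pullback.fst p' (π i)) ≫ p' = 0
            rw [Category.assoc, pullback.condition, ← Category.assoc]
            erw [hk, zero_comp]),
          pullback.hom_ext ((Category.assoc _ _ _).trans ((congrArg _ (pullback.lift_fst i' 0 _)).trans (hT.lift_f _ _)))
            ((Category.assoc _ _ _).trans ((congrArg _ (pullback.lift_snd i' 0 _)).trans (comp_zero.trans hk.symm)))⟩)
    obtain ⟨s, hs⟩ := exists_section f (pullback.snd p' (π i)) hf ((mono_iff_injective f).1 inferInstance)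
      (fun B z hz => (ShortComplex.moduleCat_exact_iff _).1 (hQ.map (ev B)) z hz)
      ((epi_iff_surjective _).1 inferInstance)
    exact ⟨s ≫ pullback.fst p' (π i), by rw [Category.assoc, pullback.condition, ← Category.assoc, hs, Category.id_comp]⟩
  choose t ht using hlift
  let L := ∐ fun i => K (φ₀ i)
  let tL : L ⟶ G := Sigma.desc t
  let πL : L ⟶ S.X₃ := Sigma.desc π
  have htL : tL ≫ p' = πL := Sigma.hom_ext _ _ fun i => by simp [tL, πL, ht]
  have hL : adequate A L := adequate_coproduct _ fun i => adequate_kernel_underline _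
  haveI : Epi πL := (epi_iff_surjective _).2 fun B x =>
    ⟨(Sigma.ι (fun i => K (φ₀ i)) ⟨B, x⟩).app (pt B) (y ⟨B, x⟩),
      (congrArg (fun χ : K (φ₀ ⟨B, x⟩) ⟶ S.X₃ => χ.app (pt B) (y ⟨B, x⟩))
        (Sigma.ι_desc π ⟨B, x⟩)).trans (hy ⟨B, x⟩)⟩
  let a : kernel πL ⟶ U A M :=
    hT.lift (kernel.ι πL ≫ tL) (by
      change (kernel.ι πL ≫ tL) ≫ p' = 0
      rw [Category.assoc, htL, kernel.condition])
  have ha : a ≫ i' = kernel.ι πL ≫ tL := hT.lift_f _ _
  let w : kernel πL ⟶ U A M ⊞ L := biprod.lift (-a) (kernel.ι πL)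
  let m : U A M ⊞ L ⟶ G := biprod.desc i' tL
  haveI : Epi m := by
    rw [epi_iff_surjective_up_to_refinements]
    intro W z
    obtain ⟨W₁, r₁, hr₁, l, hl⟩ := surjective_up_to_refinements_of_epi πL (z ≫ p')
    have h0 : (r₁ ≫ z - l ≫ tL) ≫ p' = 0 := by
      rw [Preadditive.sub_comp, Category.assoc, Category.assoc, hl, htL, sub_self]
    refine ⟨W₁, r₁, hr₁, biprod.lift (hT.lift _ h0) l, ?_⟩
    rw [biprod.lift_desc, hT.lift_f]
    exact (sub_add_cancel _ _).symm
  have hwm : w ≫ m = 0 := by simp [w, m, ha]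
  have hker : IsLimit (KernelFork.ofι w hwm) := by
    haveI : Mono w := mono_of_mono_fac (biprod.lift_snd (-a) (kernel.ι πL))
    refine KernelFork.IsLimit.ofι' _ _ fun {W} k hk => ?_
    have hk' : (k ≫ biprod.fst) ≫ i' + (k ≫ biprod.snd) ≫ tL = 0 := by
      refine Eq.trans ?_ hk
      simp [m, ← Preadditive.comp_add, biprod.desc_eq]
    have h0 : (k ≫ biprod.snd) ≫ πL = 0 := by
      have h := congrArg (fun χ => χ ≫ p') hk'
      have hi : i' ≫ p' = 0 := pushout.inr_desc _ _ _
      simpa [Preadditive.add_comp, hi, htL] using h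
    refine ⟨kernel.lift _ _ h0, biprod.hom_ext _ _ ?_ (by simp [w])⟩
    simp only [w, Category.assoc, biprod.lift_fst, Preadditive.comp_neg]
    rw [← cancel_mono i', Preadditive.neg_comp, Category.assoc, ha, kernel.lift_ι_assoc]
    exact (eq_neg_of_add_eq_zero_left hk').symm
  have hex : (ShortComplex.mk w m hwm).Exact := ShortComplex.exact_of_f_is_kernel _ hker
  have hG : adequate A G :=
    (adequate A).prop_of_iso ((cokernelIsCokernel w).coconePointUniqueUpToIso hex.gIsCokernel :
      cokernel w ≅ G)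
      (adequate_cokernel w (adequate_kernel πL hL h₃) (adequate_prod_underline_lin hL))
  let c : G ⟶ U A N := pushout.desc 0 ((underline A).map ψ) (by simp [j])
  have hjc : pushout.inl S.f j ≫ c = 0 := pushout.inl_desc _ _ _
  have hk : IsLimit (KernelFork.ofι (pushout.inl S.f j) hjc) := by
    haveI : Mono (kernel.lift c (pushout.inl S.f j) hjc) := mono_of_mono_fac (kernel.lift_ι _ _ hjc)
    haveI : Epi (kernel.lift c (pushout.inl S.f j) hjc) := by
      rw [epi_iff_surjective_up_to_refinements]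
      intro W z
      obtain ⟨W₁, r₁, hr₁, v, hv⟩ := surjective_up_to_refinements_of_epi S.g ((z ≫ kernel.ι c) ≫ p')
      have h0 : (r₁ ≫ z ≫ kernel.ι c - v ≫ pushout.inl S.f j) ≫ p' = 0 := by
        rw [Preadditive.sub_comp, sub_eq_zero, Category.assoc v, pushout.inl_desc, ← hv]
        simp
      have hm : hT.lift _ h0 ≫ (underline A).map ψ = 0 := by
        have h := congrArg (fun χ => χ ≫ c) (hT.lift_f _ h0)
        have hic : i' ≫ c = (underline A).map ψ := pushout.inr_desc _ _ _
        simpa [Preadditive.sub_comp, hic, hjc] using h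
      refine ⟨W₁, r₁, hr₁, kernel.lift _ _ hm ≫ e.inv ≫ S.f + v, ?_⟩
      rw [← cancel_mono (kernel.ι c)]
      simp only [Category.assoc, kernel.lift_ι, Preadditive.add_comp]
      rw [pushout.condition, show kernel.lift _ _ hm ≫ e.inv ≫ j ≫ pushout.inr S.f j =
          hT.lift _ h0 ≫ i' by simp [j, i'], hT.lift_f]
      exact (sub_add_cancel _ _).symm
    haveI : IsIso (kernel.lift c (pushout.inl S.f j) hjc) := isIso_of_mono_of_epi _
    exact IsLimit.ofIsoLimit (kernelIsKernel c)
      (Fork.ext (asIso (kernel.lift c (pushout.inl S.f j) hjc)).symm (by simp))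
  exact (adequate A).prop_of_iso (IsLimit.conePointUniqueUpToIso (kernelIsKernel c) hk)
    (adequate_kernel c hG (adequate_underline N))

end Groth.Agent.H02CA.Adq
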