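import Groth.Agent.H02CA.Adeq.Coker
import Groth.Agent.H02CA.Adeq.Univ
import Mathlib.RingTheory.Flat.Basic

/-!
# Adequate functors at flat algebras
-/

set_option autoImplicit false
set_option linter.style.haveILetI false

universe u

open CategoryTheory Opposite Limits TensorProduct

namespace Groth.Agent.H02CA.Adq

open Adeq

variable {A : Type u} [CommRing A]

/-- An adequate functor vanishing at the base vanishes at flat algebras. -/
theorem subsingleton_of_flat {F : MVF A} (hF : adequate A F) (h : Subsingleton (F.obj (pt (algOf A A))))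
    (B : Alg A) [Module.Flat A B] : Subsingleton (F.obj (pt B)) := by
  obtain ⟨M, N, φ, ⟨e⟩⟩ := hF
  let ψ : U A M ⟶ U A N := (underline A).map φ
  let κ : F ⟶ U A M := e.hom ≫ kernel.ι ψ
  have hκ : ∀ C : Alg A, Function.Injective (κ.app (pt C)) := (mono_iff_injective κ).1 inferInstance
  have hκψ : κ ≫ ψ = 0 := by rw [Category.assoc, kernel.condition, comp_zero]
  have hφ : Function.Injective φ.hom := (injective_iff_map_eq_zero φ.hom).2 fun m hm => by
    have h0 : ψ.app (pt (algOf A A)) (tmk M (algOf A A) ((1 : A) ⊗ₜ[A] m)) = 0 := by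
      rw [u_app_apply]
      change tmk N (algOf A A) (φ.hom.baseChange A ((1 : A) ⊗ₜ[A] m)) = 0
      rw [LinearMap.baseChange_tmul, hm, TensorProduct.tmul_zero]
      rfl
    obtain ⟨w, hw⟩ := mem_kernel ψ (algOf A A) _ h0
    have hz : e.inv.app (pt (algOf A A)) w = 0 := Subsingleton.elim _ _
    have hw0 : w = 0 := by
      have := congrArg (fun χ : kernel ψ ⟶ kernel ψ => χ.app (pt (algOf A A)) w) e.inv_hom_id
      refine this.symm.trans ?_
      exact (congrArg (e.hom.app (pt (algOf A A))) hz).trans (map_zero _)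
    have h1 : ((1 : A) ⊗ₜ[A] m : A ⊗[A] M) = 0 := by
      rw [hw0, map_zero] at hw
      exact hw.symm
    simpa using congrArg (TensorProduct.lid A M) h1
  have hB : Function.Injective (φ.hom.baseChange (B : Type u)) := by
    intro x y hxy
    exact Module.Flat.lTensor_preserves_injective_linearMap (M := (B : Type u)) φ.hom hφ hxy
  refine ⟨fun x y => hκ B (hB ?_)⟩
  have hx : ∀ z : F.obj (pt B), φ.hom.baseChange (B : Type u) (κ.app (pt B) z) = 0 := fun z =>
    congrArg (fun χ : F ⟶ U A N => χ.app (pt B) z) hκψ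
  exact (hx x).trans (hx y).symm

end Groth.Agent.H02CA.Adq
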