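import Groth.Agent.H02CA.Adeq.Coker
import Mathlib.LinearAlgebra.TensorProduct.Tower

/-!
# Change of ring for adequate functors
-/

set_option autoImplicit false
set_option linter.style.haveILetI false

universe u

open CategoryTheory Opposite Limits TensorProduct

namespace Groth.Agent.H02CA.Adq

open Adeq

variable (A A' : Type u) [CommRing A] [CommRing A'] [Algebra A A']

/-- An additive functor that is computed value by value preserves adequacy, once it does so for the functors of modules. -/
lemma kernel_transfer {F : MVF A} (hF : adequate A F) {C : Type u} [CommRing C]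
    (Φ : MVF A ⥤ MVF C) [Φ.Additive]
    (σ : Alg C → Alg A)
    (hval : ∀ {G H : MVF A} (φ : G ⟶ H) (B : Alg C), Function.Injective (φ.app (pt (σ B))) →
      Function.Injective ((Φ.map φ).app (pt B)))
    (hex : ∀ {G H K' : MVF A} (φ : G ⟶ H) (ψ : H ⟶ K') (B : Alg C),
      (∀ y, ψ.app (pt (σ B)) y = 0 → ∃ x, φ.app (pt (σ B)) x = y) →
      ∀ y, (Φ.map ψ).app (pt B) y = 0 → ∃ x, (Φ.map φ).app (pt B) x = y)
    (hU : ∀ M : ModuleCat.{u + 1} A, ∃ N : ModuleCat.{u + 1} C, Nonempty (U C N ≅ Φ.obj (U A M))) :
    adequate C (Φ.obj F) := by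
  obtain ⟨M, N, φ, ⟨e⟩⟩ := hF
  obtain ⟨M', ⟨eM⟩⟩ := hU M
  obtain ⟨N', ⟨eN⟩⟩ := hU N
  let ι : kernel ((underline A).map φ) ⟶ U A M := kernel.ι _
  have w : Φ.map ι ≫ Φ.map ((underline A).map φ) = 0 := by
    rw [← Φ.map_comp, kernel.condition, Φ.map_zero]
  obtain ⟨e'⟩ := nonempty_iso_kernel (Φ.map ι ≫ eM.inv) (eM.hom ≫ Φ.map ((underline A).map φ) ≫ eN.inv)
    (by simp only [Category.assoc, eM.inv_hom_id_assoc]; rw [← Category.assoc, w, zero_comp])
    (fun B => by
      have h1 := hval ι B (kernel_ι_injective ((underline A).map φ) (σ B))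
      have h2 := (mono_iff_injective eM.inv).1 inferInstance B
      exact h2.comp h1)
    (fun B x hx => by
      have h2 : (Φ.map ((underline A).map φ)).app (pt B) (eM.hom.app (pt B) x) = 0 := by
        have h := (mono_iff_injective eN.inv).1 inferInstance B
        exact h (hx.trans (map_zero _).symm)
      obtain ⟨y, hy⟩ := hex ι ((underline A).map φ) B (fun z hz => mem_kernel _ (σ B) z hz) _ h2
      refine ⟨y, ?_⟩
      refine (congrArg (eM.inv.app (pt B)) hy).trans ?_
      exact congrArg (fun χ : U C M' ⟶ U C M' => χ.app (pt B) x) eM.hom_inv_id)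
  exact (adequate C).prop_of_iso (Φ.mapIso e).symm
    (adequate_kernel ((eM.hom ≫ Φ.map ((underline A).map φ) ≫ eN.inv)) (adequate_underline M')
      (adequate_underline N') |> (adequate C).prop_of_iso e'.symm)

/-- The scalar extension of tensors. -/
noncomputable def restrEquiv (M : ModuleCat.{u + 1} A) (B : Alg A') :
    (B : Type u) ⊗[A'] (A' ⊗[A] M) ≃+ (((Adeq.Alg.restr A A').obj B : Alg A) : Type u) ⊗[A] M :=
  letI : Algebra A B := ((algebraMap A' B).comp (algebraMap A A')).toAlgebra
  haveI : IsScalarTower A A' B := IsScalarTower.of_algebraMap_eq' rfl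
  (TensorProduct.AlgebraTensorModule.cancelBaseChange A A' B B M).toAddEquiv

lemma restrEquiv_tmul (M : ModuleCat.{u + 1} A) (B : Alg A') (b : B) (a : A') (m : M) :
    restrEquiv A A' M B (b ⊗ₜ[A'] (a ⊗ₜ[A] m)) =
      (show (((Adeq.Alg.restr A A').obj B : Alg A) : Type u) from a • b) ⊗ₜ[A] m :=
  rfl

/-- Restriction of the functor of a module. -/
noncomputable def restrU (M : ModuleCat.{u + 1} A) :
    U A' (ModuleCat.of A' (A' ⊗[A] M)) ⟶ (Adeq.restr A A').obj (U A M) :=
  PresheafOfModules.homMk
    { app := fun X => AddCommGrpCat.ofHom (restrEquiv A A' M X.unop.unop).toAddMonoidHom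
      naturality := fun {X Y} f => by
        ext z
        change restrEquiv A A' M Y.unop.unop
            (f.unop.unop.hom.toLinearMap.rTensor (A' ⊗[A] M) z) =
          ((Adeq.Alg.restr A A').map f.unop.unop).hom.toLinearMap.rTensor M
            (restrEquiv A A' M X.unop.unop z)
        induction z using TensorProduct.induction_on with
        | zero => simp
        | tmul b y =>
          induction y using TensorProduct.induction_on with
          | zero => simp
          | tmul a m =>
            rw [LinearMap.rTensor_tmul, restrEquiv_tmul, restrEquiv_tmul]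
            erw [LinearMap.rTensor_tmul]
            exact congrArg (fun t => t ⊗ₜ[A] m) (map_smul f.unop.unop.hom a b).symm
          | add y y' hy hy' => simp only [TensorProduct.tmul_add, map_add, hy, hy']
        | add y y' hy hy' => simp only [map_add, hy, hy'] }
    (fun X r z => by
      letI : Algebra A X.unop.unop := ((algebraMap A' X.unop.unop).comp (algebraMap A A')).toAlgebra
      haveI : IsScalarTower A A' X.unop.unop := IsScalarTower.of_algebraMap_eq' rfl
      exact (TensorProduct.AlgebraTensorModule.cancelBaseChange A A' X.unop.unop X.unop.unop M).map_smul r z)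

lemma isIso_restrU (M : ModuleCat.{u + 1} A) : IsIso (restrU A A' M) :=
  isIso_of_bijective _ fun B => (restrEquiv A A' M B).bijective

/-- Restriction preserves adequacy. -/
theorem adequate_restr' {F : MVF A} (hF : adequate A F) : adequate A' ((Adeq.restr A A').obj F) := by
  haveI : (Adeq.restr A A').Additive := { map_add := rfl }
  refine kernel_transfer A hF (Adeq.restr A A') (fun B => (Adeq.Alg.restr A A').obj B)
    (fun φ B h => h) (fun φ ψ B h => h) fun M => ?_
  haveI := isIso_restrU A A' M
  exact ⟨_, ⟨asIso (restrU A A' M)⟩⟩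

/-- The tensors of a base change of algebras. -/
noncomputable def pushEquiv (M : ModuleCat.{u + 1} A') (B : Alg A) :
    (B : Type u) ⊗[A] ((ModuleCat.restrictScalars.{u + 1} (algebraMap A A')).obj M) ≃+
      (A' ⊗[A] (B : Type u)) ⊗[A'] M :=
  letI : Module A M := Module.compHom M (algebraMap A A')
  haveI : IsScalarTower A A' M := IsScalarTower.of_algebraMap_smul fun _ _ => rfl
  ((TensorProduct.comm A (B : Type u) M).toAddEquiv.trans
    (TensorProduct.AlgebraTensorModule.cancelBaseChange A A' A' M (B : Type u)).toAddEquiv.symm).trans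
      (TensorProduct.comm A' M (A' ⊗[A] (B : Type u))).toAddEquiv

lemma pushEquiv_tmul (M : ModuleCat.{u + 1} A') (B : Alg A) (b : B)
    (m : (ModuleCat.restrictScalars.{u + 1} (algebraMap A A')).obj M) :
    pushEquiv A A' M B (b ⊗ₜ[A] m) = ((1 : A') ⊗ₜ[A] b) ⊗ₜ[A'] (m : M) := rfl

lemma pushEquiv_smul (M : ModuleCat.{u + 1} A') (B : Alg A) (r : B)
    (z : (B : Type u) ⊗[A] ((ModuleCat.restrictScalars.{u + 1} (algebraMap A A')).obj M)) :
    pushEquiv A A' M B (r • z) = ((1 : A') ⊗ₜ[A] r) • pushEquiv A A' M B z := by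
  induction z using TensorProduct.induction_on with
  | zero => rw [smul_zero, map_zero, smul_zero]
  | tmul b m =>
    let m' : M := m
    change ((1 : A') ⊗ₜ[A] (r * b)) ⊗ₜ[A'] m' = ((1 : A') ⊗ₜ[A] r) • (((1 : A') ⊗ₜ[A] b) ⊗ₜ[A'] m')
    rw [TensorProduct.smul_tmul', smul_eq_mul, Algebra.TensorProduct.tmul_mul_tmul, one_mul]
  | add y y' hy hy' => rw [smul_add, map_add, map_add, smul_add, hy, hy']

/-- Pushforward of the functor of a module. -/
noncomputable def pushU (M : ModuleCat.{u + 1} A') :
    U A ((ModuleCat.restrictScalars.{u + 1} (algebraMap A A')).obj M) ⟶ (Adeq.push A A').obj (U A' M) :=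
  PresheafOfModules.homMk
    { app := fun X => AddCommGrpCat.ofHom (pushEquiv A A' M X.unop.unop).toAddMonoidHom
      naturality := fun {X Y} f => by
        ext z
        change pushEquiv A A' M Y.unop.unop (f.unop.unop.hom.toLinearMap.rTensor _ z) =
          (Algebra.TensorProduct.map (AlgHom.id A' A') f.unop.unop.hom).toLinearMap.rTensor M
            (pushEquiv A A' M X.unop.unop z)
        induction z using TensorProduct.induction_on with
        | zero => simp
        | tmul b m => rfl
        | add y y' hy hy' => simp only [map_add, hy, hy'] }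
    (fun X r z => by
      exact pushEquiv_smul A A' M X.unop.unop r z)

lemma isIso_pushU (M : ModuleCat.{u + 1} A') : IsIso (pushU A A' M) :=
  isIso_of_bijective _ fun B => (pushEquiv A A' M B).bijective

/-- Pushforward preserves adequacy. -/
theorem adequate_push' {F : MVF A'} (hF : adequate A' F) : adequate A ((Adeq.push A A').obj F) := by
  haveI : (Adeq.push A A').Additive := { map_add := rfl }
  refine kernel_transfer A' hF (Adeq.push A A') (fun B => (Adeq.Alg.baseChange A A').obj B)
    (fun φ B h => h) (fun φ ψ B h => h) fun M => ?_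
  haveI := isIso_pushU A A' M
  exact ⟨_, ⟨asIso (pushU A A' M)⟩⟩

lemma unit_natural {B B' : Alg A} (f : B ⟶ B') :
    f ≫ Adeq.Alg.unit A A' B' =
      Adeq.Alg.unit A A' B ≫ (Adeq.Alg.restr A A').map ((Adeq.Alg.baseChange A A').map f) := by
  apply CommAlgCat.hom_ext
  exact DFunLike.ext _ _ fun b => rfl

/-- The unit `F → push (restr F)`. -/
noncomputable def unitMap (F : MVF A) : F ⟶ (Adeq.push A A').obj ((Adeq.restr A A').obj F) :=
  PresheafOfModules.homMk
    { app := fun X => AddCommGrpCat.ofHom ((F.map (ptHom (Adeq.Alg.unit A A' X.unop.unop))).hom.toAddMonoidHom)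
      naturality := fun {X Y} f => by
        ext z
        change F.map (ptHom (Adeq.Alg.unit A A' Y.unop.unop)) (F.map (ptHom f.unop.unop) z) =
          F.map (ptHom ((Adeq.Alg.restr A A').map ((Adeq.Alg.baseChange A A').map f.unop.unop)))
            (F.map (ptHom (Adeq.Alg.unit A A' X.unop.unop)) z)
        rw [← map_comp', ← map_comp',
          unit_natural A A' f.unop.unop] }
    (fun X r z => map_smul' F (Adeq.Alg.unit A A' X.unop.unop) r z)

/-- Adequacy descends along a map of rings if the Amitsur sequence is exact. -/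
theorem adequate_of_restr' (F : MVF A) (h₁ : adequate A' ((Adeq.restr A A').obj F))
    (h₂ : ∀ B : Alg A, Function.Injective (F.map (ptHom (Adeq.Alg.unit A A' B))) ∧
      ∀ y : F.obj (pt ((Adeq.Alg.restr A A').obj ((Adeq.Alg.baseChange A A').obj B))),
        F.map (ptHom (Adeq.Alg.unit A A' ((Adeq.Alg.restr A A').obj ((Adeq.Alg.baseChange A A').obj B)))) y =
          F.map (ptHom ((Adeq.Alg.restr A A').map ((Adeq.Alg.baseChange A A').map (Adeq.Alg.unit A A' B)))) y →
        y ∈ Set.range (F.map (ptHom (Adeq.Alg.unit A A' B)))) :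
    adequate A F := by
  let P := (Adeq.push A A').obj ((Adeq.restr A A').obj F)
  have hP : adequate A P := adequate_push' A A' h₁
  have hPP : adequate A ((Adeq.push A A').obj ((Adeq.restr A A').obj P)) :=
    adequate_push' A A' (adequate_restr' A A' hP)
  let d : P ⟶ (Adeq.push A A').obj ((Adeq.restr A A').obj P) :=
    unitMap A A' P - (Adeq.push A A').map ((Adeq.restr A A').map (unitMap A A' F))
  have w : unitMap A A' F ≫ d = 0 := by
    refine hom_ext fun B x => sub_eq_zero.2 ?_
    change F.map (ptHom ((Adeq.Alg.restr A A').map ((Adeq.Alg.baseChange A A').map (Adeq.Alg.unit A A' B))))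
        (F.map (ptHom (Adeq.Alg.unit A A' B)) x) =
      F.map (ptHom (Adeq.Alg.unit A A' ((Adeq.Alg.restr A A').obj ((Adeq.Alg.baseChange A A').obj B))))
        (F.map (ptHom (Adeq.Alg.unit A A' B)) x)
    rw [← map_comp', ← map_comp',
      unit_natural A A' (Adeq.Alg.unit A A' B)]
  obtain ⟨e⟩ := nonempty_iso_kernel (unitMap A A' F) d w (fun B => (h₂ B).1) fun B y hy =>
    (h₂ B).2 y (sub_eq_zero.1 hy).symm
  exact (adequate A).prop_of_iso e.symm (adequate_kernel d hP hPP)

end Groth.Agent.H02CA.Adq
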