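import Groth.Agent.H02CA.Adeq.Base
import Mathlib.Algebra.Category.ModuleCat.EnoughInjectives
import Mathlib.CategoryTheory.Preadditive.Injective.Basic

/-!
# Enough injectives among module valued functors
-/

set_option autoImplicit false
set_option linter.style.haveILetI false

universe u

open CategoryTheory Opposite Limits TensorProduct

namespace Groth.Agent.H02CA.Adq

open Adeq

variable {A : Type u} [CommRing A]

/-- The value of the cofree functor of a family of modules. -/
abbrev CofreeVal (I : ∀ B : Alg A, ModuleCat.{u + 1} (B : Type u)) (C : Alg A) : Type (u + 1) :=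
  (i : Σ B : Alg A, C ⟶ B) → (ModuleCat.restrictScalars.{u + 1} i.2.hom.toRingHom).obj (I i.1)

/-- The cofree functor of a family of modules. -/
noncomputable def cofree (I : ∀ B : Alg A, ModuleCat.{u + 1} (B : Type u)) : MVF A where
  obj X := ModuleCat.of _ (CofreeVal I X.unop.unop)
  map {X Y} g := ModuleCat.ofHom (Y := (ModuleCat.restrictScalars ((ringOf A).map g).hom).obj
      (ModuleCat.of (Y.unop.unop : Type u) (CofreeVal I Y.unop.unop)))
    { toFun := fun x j => x ⟨j.1, g.unop.unop ≫ j.2⟩
      map_add' := fun _ _ => rfl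
      map_smul' := fun _ _ => rfl }
  map_id X := rfl
  map_comp f g := rfl

/-- A section of a cofree functor as a family. -/
def toVal {I : ∀ B : Alg A, ModuleCat.{u + 1} (B : Type u)} {B : Alg A} (x : (cofree I).obj (pt B)) :
    CofreeVal I B := x

lemma val_ext {I : ∀ B : Alg A, ModuleCat.{u + 1} (B : Type u)} {B : Alg A} {x y : (cofree I).obj (pt B)}
    (h : ∀ j, toVal x j = toVal y j) : x = y := funext h

/-- A component of a section of a cofree functor. -/
noncomputable def cofreeProj (I : ∀ B : Alg A, ModuleCat.{u + 1} (B : Type u)) (B : Alg A) :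
    ((cofree I).obj (pt B) : Type (u + 1)) →ₗ[(B : Type u)] I B where
  toFun x := toVal x ⟨B, 𝟙 B⟩
  map_add' _ _ := rfl
  map_smul' _ _ := rfl

/-- Maps into a cofree functor from a family of linear maps. -/
noncomputable def cofreeLift (I : ∀ B : Alg A, ModuleCat.{u + 1} (B : Type u)) (G : MVF A)
    (χ : ∀ B : Alg A, (G.obj (pt B) : Type (u + 1)) →ₗ[(B : Type u)] I B) : G ⟶ cofree I where
  app X := ModuleCat.ofHom (Y := (cofree I).obj X)
    { toFun := fun z (j : Σ B : Alg A, X.unop.unop ⟶ B) => χ j.1 (G.map (ptHom j.2) z)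
      map_add' := fun z z' => funext fun (j : Σ B : Alg A, X.unop.unop ⟶ B) =>
        (congrArg (χ j.1) (map_add (G.map (ptHom j.2)).hom z z')).trans
          (map_add (χ j.1) (G.map (ptHom j.2) z) (G.map (ptHom j.2) z'))
      map_smul' := fun c z => funext fun (j : Σ B : Alg A, X.unop.unop ⟶ B) =>
        (congrArg (χ j.1) (map_smul' G j.2 c z)).trans ((χ j.1).map_smul _ _) }
  naturality {X Y} g := by
    ext z
    refine funext fun (j : Σ B : Alg A, Y.unop.unop ⟶ B) => ?_
    exact congrArg (χ j.1) (map_comp' G g.unop.unop j.2 z).symm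

lemma proj_map {I : ∀ B : Alg A, ModuleCat.{u + 1} (B : Type u)} {C B : Alg A} (h : C ⟶ B)
    (y : (cofree I).obj (pt C)) :
    cofreeProj I B ((cofree I).map (ptHom h) y) = toVal y ⟨B, h⟩ := by
  change toVal y ⟨B, h ≫ 𝟙 B⟩ = _
  rw [Category.comp_id]

lemma cofree_injective (I : ∀ B : Alg A, ModuleCat.{u + 1} (B : Type u)) [∀ B, Injective (I B)] :
    Injective (cofree I) := by
  refine ⟨fun {F G} φ m hm => ?_⟩
  have hinj := (mono_iff_injective m).1 hm
  choose χ hχ using fun B : Alg A => by
    haveI : Mono (ModuleCat.ofHom (m.app (pt B)).hom :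
        ModuleCat.of (B : Type u) (F.obj (pt B)) ⟶ ModuleCat.of (B : Type u) (G.obj (pt B))) :=
      (ModuleCat.mono_iff_injective _).2 (hinj B)
    exact Injective.factors (J := I B)
      (ModuleCat.ofHom ((cofreeProj I B).comp (φ.app (pt B)).hom) :
        ModuleCat.of (B : Type u) (F.obj (pt B)) ⟶ I B)
      (ModuleCat.ofHom (m.app (pt B)).hom :
        ModuleCat.of (B : Type u) (F.obj (pt B)) ⟶ ModuleCat.of (B : Type u) (G.obj (pt B)))
  refine ⟨cofreeLift I G (fun B => (χ B).hom), hom_ext fun C x => val_ext fun j => ?_⟩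
  change (χ j.1).hom (G.map (ptHom j.2) (m.app (pt C) x)) = toVal (φ.app (pt C) x) j
  rw [← nat_apply m j.2 x]
  refine (congrArg (fun h => h.hom (F.map (ptHom j.2) x)) (hχ j.1)).trans ?_
  exact (congrArg (cofreeProj I j.1) (nat_apply φ j.2 x)).trans
    (proj_map j.2 _)

theorem enoughInjectives_MVF : EnoughInjectives (MVF A) := by
  refine ⟨fun F => ?_⟩
  let I : ∀ B : Alg A, ModuleCat.{u + 1} (B : Type u) := fun B =>
    Injective.under (ModuleCat.of (B : Type u) (F.obj (pt B)))
  let e : F ⟶ cofree I := cofreeLift I F fun B =>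
    (Injective.ι (ModuleCat.of (B : Type u) (F.obj (pt B)))).hom
  refine ⟨{ J := cofree I, injective := cofree_injective I, f := e, mono := ?_ }⟩
  refine (mono_iff_injective e).2 fun B x y hxy => ?_
  have h := congrArg (fun z : (cofree I).obj (pt B) => toVal z ⟨B, 𝟙 B⟩) hxy
  have hx := (ModuleCat.mono_iff_injective (Injective.ι (ModuleCat.of (B : Type u) (F.obj (pt B))))).1 inferInstance
    (h : (Injective.ι (ModuleCat.of (B : Type u) (F.obj (pt B)))).hom (F.map (ptHom (𝟙 B)) x) = _)
  exact ((map_id' F B x).symm.trans hx).trans (map_id' F B y)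

end Groth.Agent.H02CA.Adq
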