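import Groth.Agent.H02CA.Adeq.Coker
import Groth.Agent.H02CA.Adeq.Inj
import Mathlib.CategoryTheory.Adjunction.Comma
import Mathlib.CategoryTheory.Limits.Shapes.Terminal

/-!
# The coreflector onto adequate functors
-/

set_option autoImplicit false
set_option linter.style.haveILetI false

universe u

open CategoryTheory Opposite Limits TensorProduct

namespace Groth.Agent.H02CA.Adq

open Adeq

variable {A : Type u} [CommRing A]

variable (A) in
/-- Standard finite free modules in the large universe. -/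
abbrev Std (n : ℕ) : ModuleCat.{u + 1} A := ModuleCat.of A (ULift.{u + 1} (Fin n → A))

variable (A) in
/-- The index of standard linearly adequate functors. -/
abbrev LinIdx : Type (u + 1) := Σ n : ℕ, Σ m : ℕ, (Std A n ⟶ Std A m)

/-- A standard linearly adequate functor. -/
noncomputable abbrev LK (k : LinIdx A) : MVF A := K k.2.2

lemma adequate_LK (k : LinIdx A) : adequate A (LK k) := adequate_kernel_underline _

lemma exists_std (P : ModuleCat.{u + 1} A) [Module.Finite A P] [Module.Free A P] :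
    ∃ n : ℕ, Nonempty (P ≅ Std A n) := by
  classical
  let b := (Module.Free.chooseBasis A P).reindex (Fintype.equivFin (Module.Free.ChooseBasisIndex A P))
  exact ⟨_, ⟨(b.equivFun.trans ULift.moduleEquiv.symm).toModuleIso⟩⟩

lemma exists_lin_std {F : MVF A} (hF : adequate A F) (B : Alg A) (x : F.obj (pt B)) :
    ∃ (k : LinIdx A) (h : LK k ⟶ F) (y : (LK k).obj (pt B)), h.app (pt B) y = x := by
  obtain ⟨P, P', φ₀, h1, h2, h3, h4, ψ, y, hy⟩ := exists_lin hF B x
  obtain ⟨n, ⟨e⟩⟩ := exists_std P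
  obtain ⟨m, ⟨e'⟩⟩ := exists_std P'
  let w : K φ₀ ≅ LK (⟨n, m, e.inv ≫ φ₀ ≫ e'.hom⟩ : LinIdx A) :=
    kernel.mapIso _ _ ((underline A).mapIso e) ((underline A).mapIso e') (by
      simp [← Functor.map_comp])
  refine ⟨_, w.inv ≫ ψ, w.hom.app (pt B) y, ?_⟩
  refine Eq.trans ?_ hy
  exact congrArg (ψ.app (pt B))
    (congrArg (fun χ : K φ₀ ⟶ K φ₀ => χ.app (pt B) y) w.hom_inv_id)

/-- Maps out of an adequate functor are determined on linearly adequate ones. -/
lemma hom_ext_lin {F G : MVF A} (hF : adequate A F) {φ ψ : F ⟶ G}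
    (h : ∀ (k : LinIdx A) (a : LK k ⟶ F), a ≫ φ = a ≫ ψ) : φ = ψ := by
  refine hom_ext fun B x => ?_
  obtain ⟨k, a, y, rfl⟩ := exists_lin_std hF B x
  exact congrArg (fun χ : LK k ⟶ G => χ.app (pt B) y) (h k a)

/-- Binary coproducts of adequate functors. -/
lemma adequate_coprod' {X Y : MVF A} (hX : adequate A X) (hY : adequate A Y) : adequate A (X ⨿ Y) := by
  have h : ∀ i : ULift.{u + 1} Bool, adequate A (cond i.down X Y) := fun ⟨i⟩ => by
    cases i
    · exact hY
    · exact hX
  refine (adequate A).prop_of_iso ?_ (adequate_coproduct _ h)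
  exact
    { hom := Sigma.desc fun i => match i with
        | ⟨true⟩ => coprod.inl
        | ⟨false⟩ => coprod.inr
      inv := coprod.desc (Sigma.ι (fun i : ULift.{u + 1} Bool => cond i.down X Y) ⟨true⟩)
        (Sigma.ι (fun i : ULift.{u + 1} Bool => cond i.down X Y) ⟨false⟩)
      hom_inv_id := Sigma.hom_ext _ _ fun ⟨i⟩ => by
        cases i <;> simp <;> first | exact coprod.inl_desc _ _ | exact coprod.inr_desc _ _
      inv_hom_id := by ext <;> simp }

/-- An adequate functor is a cokernel between coproducts of standard ones. -/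
lemma exists_lin_cover {F : MVF A} (hF : adequate A F) :
    ∃ p : (∐ fun i : (Σ k : LinIdx A, (LK k ⟶ F)) => LK i.1) ⟶ F,
      Epi p ∧ ∀ i, Sigma.ι (fun i : (Σ k : LinIdx A, (LK k ⟶ F)) => LK i.1) i ≫ p = i.2 := by
  refine ⟨Sigma.desc fun i => i.2, (epi_iff_surjective _).2 fun B x => ?_, fun i => Sigma.ι_desc _ i⟩
  obtain ⟨k, a, y, hy⟩ := exists_lin_std hF B x
  refine ⟨(Sigma.ι (fun i : (Σ k : LinIdx A, (LK k ⟶ F)) => LK i.1) ⟨k, a⟩).app (pt B) y, ?_⟩
  exact (congrArg (fun χ : LK k ⟶ F => χ.app (pt B) y)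
    (Sigma.ι_desc (fun i : (Σ k : LinIdx A, (LK k ⟶ F)) => i.2) ⟨k, a⟩)).trans hy

/-- The universal map from an adequate functor. -/
theorem exists_coreflection (G : MVF A) :
    ∃ (Q : MVF A) (π : Q ⟶ G), adequate A Q ∧
      ∀ (F : MVF A), adequate A F → ∀ h : F ⟶ G, ∃! g : F ⟶ Q, g ≫ π = h := by
  let L : MVF A := ∐ fun i : (Σ k : LinIdx A, (LK k ⟶ G)) => LK i.1
  let π₀ : L ⟶ G := Sigma.desc fun i => i.2
  have hL : adequate A L := adequate_coproduct _ fun i => adequate_LK _
  let T : Type (u + 1) := Σ k : LinIdx A, { a : LK k ⟶ L // a ≫ π₀ = 0 }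
  let d : (∐ fun t : T => LK t.1) ⟶ L := Sigma.desc fun t => t.2.1
  have hd : d ≫ π₀ = 0 := Sigma.hom_ext _ _ fun t => by simp [d, t.2.2]
  let π : cokernel d ⟶ G := cokernel.desc d π₀ hd
  have hkill : ∀ {k : LinIdx A} (a : LK k ⟶ L), a ≫ π₀ = 0 → a ≫ cokernel.π d = 0 := fun {k} a ha => by
    have h1 : Sigma.ι (fun t : T => LK t.1) ⟨k, a, ha⟩ ≫ d = a := Sigma.ι_desc _ _
    rw [← h1, Category.assoc, cokernel.condition, comp_zero]
  refine ⟨cokernel d, π, adequate_cokernel d (adequate_coproduct _ fun t => adequate_LK _) hL,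
    fun F hF h => ?_⟩
  have huniq : ∀ g : F ⟶ cokernel d, g ≫ π = 0 → g = 0 := fun g hg => by
    refine hom_ext_lin hF fun k a => ?_
    rw [comp_zero]
    refine hom_ext fun B y => ?_
    obtain ⟨l, hl⟩ := (epi_iff_surjective (cokernel.π d)).1 inferInstance B ((a ≫ g).app (pt B) y)
    let p : LK k ⊞ L ⟶ cokernel d := biprod.desc (a ≫ g) (-cokernel.π d)
    have hsum : adequate A (LK k ⊞ L) := by
      refine (adequate A).prop_of_iso (biprod.isoCoprod _ _).symm ?_
      exact adequate_coprod' (adequate_LK k) hL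
    have hW : adequate A (kernel p) :=
      adequate_kernel p hsum (adequate_cokernel d (adequate_coproduct _ fun t => adequate_LK _) hL)
    have hy : p.app (pt B) ((biprod.inl : LK k ⟶ LK k ⊞ L).app (pt B) y +
        (biprod.inr : L ⟶ LK k ⊞ L).app (pt B) l) = 0 := by
      refine (map_add (p.app (pt B)).hom _ _).trans ?_
      refine (congrArg₂ (· + ·) (congrArg (fun χ : LK k ⟶ cokernel d => χ.app (pt B) y)
        (biprod.inl_desc (a ≫ g) (-cokernel.π d)))
        (congrArg (fun χ : L ⟶ cokernel d => χ.app (pt B) l)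
          (biprod.inr_desc (a ≫ g) (-cokernel.π d)))).trans ?_
      change (a ≫ g).app (pt B) y + -((cokernel.π d).app (pt B) l) = 0
      rw [hl, add_neg_cancel]
    obtain ⟨w, hw⟩ := mem_kernel p B _ hy
    obtain ⟨k', b, z, hz⟩ := exists_lin_std hW B w
    have e1 : kernel.ι p ≫ biprod.fst ≫ a ≫ g = kernel.ι p ≫ biprod.snd ≫ cokernel.π d := by
      rw [← sub_eq_zero, ← Preadditive.comp_sub]
      refine Eq.trans (congrArg (kernel.ι p ≫ ·) ?_) (kernel.condition p)
      simp [p, biprod.desc_eq, sub_eq_add_neg]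
    have e2 : (b ≫ kernel.ι p ≫ biprod.snd) ≫ π₀ = 0 := by
      have := congrArg (fun χ => b ≫ χ ≫ π) e1
      simp only [Category.assoc, hg, comp_zero] at this
      rw [Category.assoc, Category.assoc]
      refine Eq.trans ?_ this.symm
      exact congrArg (fun χ => b ≫ kernel.ι p ≫ biprod.snd ≫ χ) (cokernel.π_desc d π₀ hd).symm
    have e3 : (b ≫ kernel.ι p ≫ biprod.fst) ≫ a ≫ g = 0 := by
      rw [Category.assoc, Category.assoc, e1]
      simpa only [Category.assoc] using hkill _ e2
    have hy' : (biprod.fst : LK k ⊞ L ⟶ LK k).app (pt B) ((kernel.ι p).app (pt B) (b.app (pt B) z)) = y := by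
      rw [hz, hw, map_add]
      refine (congrArg₂ (· + ·) (congrArg (fun χ : LK k ⟶ LK k => χ.app (pt B) y) biprod.inl_fst)
        (congrArg (fun χ : L ⟶ LK k => χ.app (pt B) l) biprod.inr_fst)).trans ?_
      exact add_zero y
    rw [← hy']
    exact congrArg (fun χ : LK k' ⟶ cokernel d => χ.app (pt B) z) e3
  obtain ⟨p, hp, hpι⟩ := exists_lin_cover hF
  let s : (∐ fun i : (Σ k : LinIdx A, (LK k ⟶ F)) => LK i.1) ⟶ L :=
    Sigma.desc fun i => Sigma.ι (fun i : (Σ k : LinIdx A, (LK k ⟶ G)) => LK i.1) ⟨i.1, i.2 ≫ h⟩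
  have hs : s ≫ π₀ = p ≫ h := Sigma.hom_ext _ _ fun i => by
    rw [← Category.assoc (Sigma.ι _ i), ← Category.assoc (Sigma.ι _ i), hpι]
    simp [s, π₀]
  have hker : kernel.ι p ≫ s ≫ cokernel.π d = 0 := by
    refine hom_ext_lin (adequate_kernel p (adequate_coproduct _ fun i => adequate_LK _) hF) fun k a => ?_
    rw [comp_zero, ← Category.assoc, ← Category.assoc]
    refine hkill _ ?_
    rw [Category.assoc, Category.assoc, hs, kernel.condition_assoc, zero_comp, comp_zero]
  haveI := hp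
  have hex : (ShortComplex.mk (kernel.ι p) p (kernel.condition p)).Exact :=
    ShortComplex.exact_of_f_is_kernel _ (kernelIsKernel p)
  let g : F ⟶ cokernel d := hex.desc (s ≫ cokernel.π d) hker
  have hg : p ≫ g = s ≫ cokernel.π d := hex.g_desc _ _
  refine ⟨g, ?_, fun g' hg' => ?_⟩
  · change g ≫ π = h
    rw [← cancel_epi p, reassoc_of% hg, cokernel.π_desc, hs]
  · refine sub_eq_zero.1 (huniq _ ?_)
    rw [Preadditive.sub_comp, hg', sub_eq_zero]
    rw [← cancel_epi p, reassoc_of% hg, cokernel.π_desc, hs]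

theorem isLeftAdjoint_ι : (adequate A).ι.IsLeftAdjoint := by
  have h : ∀ G : MVF A, HasTerminal (CostructuredArrow (adequate A).ι G) := fun G => by
    obtain ⟨Q, π, hQ, huniv⟩ := exists_coreflection G
    let T : CostructuredArrow (adequate A).ι G :=
      CostructuredArrow.mk (show (adequate A).ι.obj ⟨Q, hQ⟩ ⟶ G from π)
    haveI : ∀ Y, Nonempty (Y ⟶ T) := fun Y => by
      obtain ⟨g, hg, -⟩ := huniv _ Y.left.2 Y.hom
      exact ⟨CostructuredArrow.homMk (ObjectProperty.homMk g) hg⟩
    haveI : ∀ Y, Subsingleton (Y ⟶ T) := fun Y => ⟨fun a b => CostructuredArrow.hom_ext _ _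
      (ObjectProperty.hom_ext _ ((huniv _ Y.left.2 Y.hom).unique (CostructuredArrow.w a) (CostructuredArrow.w b)))⟩
    exact hasTerminal_of_unique T
  exact isLeftAdjoint_of_costructuredArrowTerminals _

theorem enoughInjectives_adequate : EnoughInjectives (Adequate A) := by
  haveI := enoughInjectives_MVF (A := A)
  refine ⟨fun X => ?_⟩
  let I : MVF A := Injective.under X.obj
  obtain ⟨Q, π, hQ, huniv⟩ := exists_coreflection I
  obtain ⟨j, hj, -⟩ := huniv X.obj X.2 (Injective.ι X.obj)
  haveI : Injective (⟨Q, hQ⟩ : Adequate A) := ⟨fun {Y Z} g m hm => by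
    haveI : Mono m.hom := by
      refine Preadditive.mono_of_cancel_zero _ fun {W} w hw => ?_
      let K' : Adequate A := ⟨kernel m.hom, adequate_kernel m.hom Y.2 Z.2⟩
      have h0 : (ObjectProperty.homMk (kernel.ι m.hom) : K' ⟶ Y) = 0 := by
        refine (cancel_mono m).1 ?_
        apply ObjectProperty.hom_ext
        exact (kernel.condition m.hom).trans (zero_comp (f := m.hom)).symm
      have h1 : kernel.ι m.hom = 0 := congrArg (fun f => f.hom) h0
      rw [← kernel.lift_ι m.hom w hw, h1, comp_zero]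
    let e : Z.obj ⟶ I := Injective.factorThru (g.hom ≫ π) m.hom
    obtain ⟨l, hl, -⟩ := huniv Z.obj Z.2 e
    refine ⟨ObjectProperty.homMk l, ObjectProperty.hom_ext _ ?_⟩
    refine (huniv Y.obj Y.2 (g.hom ≫ π)).unique ?_ rfl
    change (m.hom ≫ l) ≫ π = g.hom ≫ π
    rw [Category.assoc, hl, Injective.comp_factorThru]⟩
  haveI : Mono j := by
    have : Mono (j ≫ π) := by rw [hj]; infer_instance
    exact mono_of_mono j π
  exact ⟨{ J := ⟨Q, hQ⟩, injective := inferInstance, f := ObjectProperty.homMk j,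
           mono := (adequate A).ι.mono_of_mono_map (show Mono j from inferInstance) }⟩

end Groth.Agent.H02CA.Adq
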