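import Groth.Agent.H02CA.Adeq.Base
import Groth.Agent.H02CA.Adeq.Univ
import Mathlib.Algebra.Category.Ring.FilteredColimits
import Mathlib.Algebra.Category.Grp.FilteredColimits
import Mathlib.Algebra.Category.Grp.Colimits
import Mathlib.CategoryTheory.Limits.Constructions.Over.Connected
import Mathlib.CategoryTheory.Filtered.Connected
import Mathlib.CategoryTheory.Limits.Preserves.Filtered

/-!
# Adequate functors commute with filtered colimits
-/

set_option autoImplicit false
set_option linter.style.haveILetI false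

universe u

open CategoryTheory Opposite Limits TensorProduct

namespace Groth.Agent.H02CA.Adq

open Adeq

variable {A : Type u} [CommRing A]

section Alg

variable {J : Type u} [SmallCategory J] [IsFiltered J] {D : J ⥤ Alg A} {c : Cocone D}

/-- The functor to types used for elementwise statements. -/
noncomputable abbrev algToType : Alg A ⥤ Type u :=
  (commAlgCatEquivUnder (CommRingCat.of A)).functor ⋙ Under.forget _ ⋙ forget CommRingCat.{u}

/-- The colimit of algebras on underlying sets. -/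
noncomputable def isColimit_types (hc : IsColimit c) : IsColimit (algToType.mapCocone c) :=
  haveI : IsConnected J := IsFiltered.isConnected J
  isColimitOfPreserves algToType hc

lemma exists_rep_alg (hc : IsColimit c) (b : (c.pt : Type u)) :
    ∃ (i : J) (a : D.obj i), (c.ι.app i).hom a = b :=
  Types.jointly_surjective_of_isColimit (isColimit_types hc) b

lemma exists_eq_alg (hc : IsColimit c) {i j : J} (a : D.obj i) (b : D.obj j)
    (h : (c.ι.app i).hom a = (c.ι.app j).hom b) :
    ∃ (k : J) (f : i ⟶ k) (g : j ⟶ k), (D.map f).hom a = (D.map g).hom b :=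
  (Types.FilteredColimit.isColimit_eq_iff _ (isColimit_types hc)).1 h

end Alg

section Ab

variable {J : Type u} [SmallCategory J] [IsFiltered J]

lemma preserves_forget_ab : PreservesColimitsOfShape J (forget AddCommGrpCat.{u + 1}) := by
  haveI : PreservesFilteredColimitsOfSize.{u, u} (forget AddCommGrpCat.{u + 1}) :=
    preservesFilteredColimitsOfSize_of_univLE.{u + 1, u + 1} (forget AddCommGrpCat.{u + 1})
  exact PreservesFilteredColimitsOfSize.preserves_filtered_colimits J

lemma exists_rep_ab {F : J ⥤ AddCommGrpCat.{u + 1}} {L : Cocone F} (hL : IsColimit L) (z : L.pt) :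
    ∃ (i : J) (y : F.obj i), L.ι.app i y = z := by
  haveI := preserves_forget_ab (J := J)
  exact Concrete.isColimit_exists_rep F hL z

lemma exists_zero_ab {F : J ⥤ AddCommGrpCat.{u + 1}} {L : Cocone F} (hL : IsColimit L) {i : J}
    (y : F.obj i) (h : L.ι.app i y = 0) : ∃ (j : J) (g : i ⟶ j), F.map g y = 0 := by
  haveI := preserves_forget_ab (J := J)
  obtain ⟨k, f, g, hfg⟩ := Concrete.isColimit_exists_of_rep_eq F hL y (0 : F.obj i)
    (h.trans (map_zero _).symm)
  exact ⟨k, f, hfg.trans (map_zero _)⟩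

/-- A cocone is a colimit if every element comes from a stage and zero is detected at a stage. -/
theorem nonempty_isColimit_of_elements {F : J ⥤ AddCommGrpCat.{u + 1}} (s : Cocone F)
    (h₁ : ∀ z : s.pt, ∃ (i : J) (y : F.obj i), s.ι.app i y = z)
    (h₂ : ∀ (i : J) (y : F.obj i), s.ι.app i y = 0 → ∃ (j : J) (g : i ⟶ j), F.map g y = 0) :
    Nonempty (IsColimit s) := by
  let Lc := colimit.cocone F
  let φ : Lc.pt ⟶ s.pt := colimit.desc F s
  have hφ : ∀ (i : J) (y : F.obj i), φ (Lc.ι.app i y) = s.ι.app i y := fun i y =>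
    ConcreteCategory.congr_hom (colimit.ι_desc s i) y
  haveI : IsIso φ := by
    rw [ConcreteCategory.isIso_iff_bijective]
    refine ⟨(injective_iff_map_eq_zero φ.hom).2 fun z hz => ?_, fun z => ?_⟩
    · obtain ⟨i, y, rfl⟩ := exists_rep_ab (colimit.isColimit F) z
      obtain ⟨j, g, hg⟩ := h₂ i y ((hφ i y).symm.trans hz)
      rw [← ConcreteCategory.congr_hom (Lc.w g) y]
      exact (congrArg (Lc.ι.app j) hg).trans (map_zero _)
    · obtain ⟨i, y, rfl⟩ := h₁ z
      exact ⟨_, hφ i y⟩
  exact ⟨(colimit.isColimit F).ofIsoColimit (Cocone.ext (asIso φ) fun i => colimit.ι_desc s i)⟩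

end Ab

section Tensor

variable {J : Type u} [SmallCategory J] [IsFiltered J] {D : J ⥤ Alg A} {c : Cocone D}
  (M : ModuleCat.{u + 1} A)

lemma mp_U_comp (i j : J) (g : i ⟶ j) (z : (U A M).obj (pt (D.obj i))) :
    mp (U A M) (c.ι.app j) (mp (U A M) (D.map g) z) = mp (U A M) (c.ι.app i) z := by
  rw [← mp_comp, c.w]

lemma tensor_rep (hc : IsColimit c) (z : (c.pt : Type u) ⊗[A] M) :
    ∃ (i : J) (y : (D.obj i : Type u) ⊗[A] M), (c.ι.app i).hom.toLinearMap.rTensor M y = z := by
  induction z using TensorProduct.induction_on with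
  | zero => exact ⟨IsFiltered.nonempty.some, 0, map_zero _⟩
  | tmul b m =>
    obtain ⟨i, a, rfl⟩ := exists_rep_alg hc b
    exact ⟨i, a ⊗ₜ m, rfl⟩
  | add z z' hz hz' =>
    obtain ⟨i, y, rfl⟩ := hz
    obtain ⟨j, y', rfl⟩ := hz'
    refine ⟨IsFiltered.max i j, (D.map (IsFiltered.leftToMax i j)).hom.toLinearMap.rTensor M y +
      (D.map (IsFiltered.rightToMax i j)).hom.toLinearMap.rTensor M y', ?_⟩
    rw [map_add]
    exact congrArg₂ (· + ·) (mp_U_comp M i _ _ (tmk M _ y)) (mp_U_comp M j _ _ (tmk M _ y'))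

lemma tensor_zero (hc : IsColimit c) (i : J) (y : (D.obj i : Type u) ⊗[A] M)
    (h : (c.ι.app i).hom.toLinearMap.rTensor M y = 0) :
    ∃ (j : J) (g : i ⟶ j), (D.map g).hom.toLinearMap.rTensor M y = 0 := by
  let G : J ⥤ AddCommGrpCat.{u + 1} := D ⋙ (U A M).toAb
  let Lc := colimit.cocone G
  let ι : ∀ k, (D.obj k : Type u) ⊗[A] M →+ Lc.pt := fun k => (Lc.ι.app k).hom
  have hw : ∀ {k l : J} (g : k ⟶ l) (z : (D.obj k : Type u) ⊗[A] M),
      ι l ((D.map g).hom.toLinearMap.rTensor M z) = ι k z := fun g z =>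
    ConcreteCategory.congr_hom (Lc.w g) z
  choose st rep hrep using fun b : (c.pt : Type u) => exists_rep_alg hc b
  let q : ∀ k : J, (D.obj k : Type u) →+* (c.pt : Type u) := fun k => (c.ι.app k).hom.toRingHom
  have key : ∀ (k : J) (a : D.obj k) (m : M),
      ι (st (q k a)) (rep (q k a) ⊗ₜ m) = ι k (a ⊗ₜ m) := by
    intro k a m
    obtain ⟨l, f, g, hfg⟩ := exists_eq_alg hc (rep (q k a)) a (hrep _)
    rw [← hw f, ← hw g, LinearMap.rTensor_tmul, LinearMap.rTensor_tmul]
    exact congrArg (fun t => ι l (t ⊗ₜ m)) hfg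
  let β : (c.pt : Type u) →+ M →+ Lc.pt :=
    AddMonoidHom.mk' (fun b => AddMonoidHom.mk' (fun m => ι (st b) (rep b ⊗ₜ m))
      (fun m m' => by rw [TensorProduct.tmul_add, map_add]))
      (fun b b' => by
        obtain ⟨k, a, rfl⟩ := exists_rep_alg hc b
        obtain ⟨l, a', rfl⟩ := exists_rep_alg hc b'
        ext m
        let n := IsFiltered.max k l
        let f : k ⟶ n := IsFiltered.leftToMax k l
        let g : l ⟶ n := IsFiltered.rightToMax k l
        have e : q k a + q l a' =
            q n ((D.map f).hom a + (D.map g).hom a') := by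
          rw [map_add]
          exact congrArg₂ (· + ·) (congrArg (fun h => h.hom a) (c.w f)).symm
            (congrArg (fun h => h.hom a') (c.w g)).symm
        change ι (st (q k a + q l a')) (rep (q k a + q l a') ⊗ₜ m) = ι (st (q k a)) (rep (q k a) ⊗ₜ m) + ι (st (q l a')) (rep (q l a') ⊗ₜ m)
        rw [key k a m, key l a' m, e, key n _ m, TensorProduct.add_tmul, map_add]
        exact congrArg₂ (· + ·) (hw f (a ⊗ₜ m)) (hw g (a' ⊗ₜ m)))
  let ψ : (c.pt : Type u) ⊗[A] M →+ Lc.pt := TensorProduct.liftAddHom β (fun r b m => by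
    obtain ⟨k, a, rfl⟩ := exists_rep_alg hc b
    refine (congrArg (fun x : (c.pt : Type u) => ι (st x) (rep x ⊗ₜ m))
      (map_smul (c.ι.app k).hom r a).symm).trans ((key k _ m).trans ?_)
    rw [TensorProduct.smul_tmul]
    exact (key k a (r • m)).symm)
  have hψ : ∀ z : (D.obj i : Type u) ⊗[A] M, ψ ((c.ι.app i).hom.toLinearMap.rTensor M z) = ι i z := by
    intro z
    induction z using TensorProduct.induction_on with
    | zero => simp only [map_zero]
    | tmul a m => exact key i a m
    | add z z' hz hz' => simp only [map_add, hz, hz']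
  exact exists_zero_ab (colimit.isColimit G) y (((hψ y).symm.trans (congrArg ψ h)).trans (map_zero ψ))

end Tensor

/-- Adequate functors commute with filtered colimits. -/
theorem nonempty_isColimit_mapCocone {F : MVF A} (hF : adequate A F) {J : Type u} [SmallCategory J]
    [IsFiltered J] (D : J ⥤ Alg A) (c : Cocone D) (hc : IsColimit c) :
    Nonempty (IsColimit (F.toAb.mapCocone c)) := by
  obtain ⟨M, N, φ, ⟨e⟩⟩ := hF
  let ψ : U A M ⟶ U A N := (underline A).map φ
  let ι : F ⟶ U A M := e.hom ≫ kernel.ι ψ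
  have hι : ∀ C : Alg A, Function.Injective (ι.app (pt C)) := (mono_iff_injective ι).1 inferInstance
  have hιψ : ∀ (C : Alg A) (y : F.obj (pt C)), ψ.app (pt C) (ι.app (pt C) y) = 0 := fun C y =>
    kernel_condition_apply ψ C (e.hom.app (pt C) y)
  refine nonempty_isColimit_of_elements _ (fun z => ?_) fun i y hy => ?_
  · obtain ⟨i, w, hw⟩ := tensor_rep M hc (ι.app (pt c.pt) z)
    have h0 : (c.ι.app i).hom.toLinearMap.rTensor N (ψ.app (pt (D.obj i)) (tmk M _ w)) = 0 := by
      refine (nat_mp ψ (c.ι.app i) (tmk M _ w)).symm.trans ?_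
      exact (congrArg (ψ.app (pt c.pt)) hw).trans (hιψ _ z)
    obtain ⟨j, g, hg⟩ := tensor_zero N hc i _ h0
    obtain ⟨v, hv⟩ := mem_kernel ψ (D.obj j) (mp (U A M) (D.map g) (tmk M _ w))
      ((nat_mp ψ (D.map g) (tmk M _ w)).trans hg)
    refine ⟨j, e.inv.app (pt (D.obj j)) v, hι c.pt ?_⟩
    change ι.app (pt c.pt) (mp F (c.ι.app j) (e.inv.app (pt (D.obj j)) v)) = _
    rw [nat_mp]
    have hv' : (ι.app (pt (D.obj j))).hom (e.inv.app (pt (D.obj j)) v) = (kernel.ι ψ).app (pt (D.obj j)) v :=
      congrArg ((kernel.ι ψ).app (pt (D.obj j)))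
        (congrArg (fun χ : kernel ψ ⟶ kernel ψ => χ.app (pt (D.obj j)) v) e.inv_hom_id)
    rw [hv', hv, mp_U_comp]
    exact hw
  · have h0 : (c.ι.app i).hom.toLinearMap.rTensor M ((ι.app (pt (D.obj i))).hom y) = 0 := by
      refine (nat_mp ι (c.ι.app i) y).symm.trans ?_
      exact (congrArg (ι.app (pt c.pt)) hy).trans (map_zero _)
    obtain ⟨j, g, hg⟩ := tensor_zero M hc i _ h0
    refine ⟨j, g, hι (D.obj j) ?_⟩
    exact ((nat_mp ι (D.map g) y).trans hg).trans (map_zero (ι.app (pt (D.obj j))).hom).symm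

end Groth.Agent.H02CA.Adq
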