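import Groth.Agent.H02CA.Adeq.Base
import Mathlib.LinearAlgebra.TensorProduct.RightExactness
import Mathlib.LinearAlgebra.TensorProduct.Finiteness
import Mathlib.LinearAlgebra.Finsupp.LinearCombination
import Mathlib.LinearAlgebra.FreeModule.Finite.Basic
import Mathlib.RingTheory.Finiteness.Finsupp

/-!
# Sections of adequate functors come from linearly adequate ones
-/

set_option autoImplicit false
set_option linter.style.haveILetI false

universe u

open CategoryTheory Opposite Limits TensorProduct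

namespace Groth.Agent.H02CA.Adq

open Adeq

variable {A : Type u} [CommRing A]

lemma exists_sum (B : Alg A) (M : ModuleCat.{u + 1} A) (x : (B : Type u) ⊗[A] M) :
    ∃ S : Finset (Prod B M), x = ∑ i : {i // i ∈ S}, i.1.1 ⊗ₜ[A] i.1.2 := by
  obtain ⟨S, hS⟩ := TensorProduct.exists_finset x
  exact ⟨S, hS.trans (Finset.sum_coe_sort S fun i => i.1 ⊗ₜ[A] i.2).symm⟩

lemma exists_ker_tensor {Q N : Type (u + 1)} [AddCommGroup Q] [Module A Q] [AddCommGroup N] [Module A N]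
    (B : Alg A) (π : Q →ₗ[A] N) (hπ : Function.Surjective π) (z : (B : Type u) ⊗[A] Q)
    (hz : π.lTensor B z = 0) :
    ∃ w : (B : Type u) ⊗[A] LinearMap.ker π, (LinearMap.ker π).subtype.lTensor B w = z :=
  ((lTensor_exact (B : Type u) (LinearMap.exact_subtype_ker_map π) hπ) z).1 hz

/-- Vanishing of an element of a tensor product is witnessed by finite free modules. -/
theorem exists_free_witness {M N : ModuleCat.{u + 1} A} (φ : M ⟶ N) (B : Alg A)
    (x : (B : Type u) ⊗[A] M) (hx : φ.hom.baseChange B x = 0) :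
    ∃ (ι κ : Type (u + 1)) (_ : Finite ι) (_ : Finite κ) (θ : (ι →₀ A) →ₗ[A] (κ →₀ A))
      (p : (ι →₀ A) →ₗ[A] M) (q : (κ →₀ A) →ₗ[A] N) (y : (B : Type u) ⊗[A] (ι →₀ A)),
      φ.hom ∘ₗ p = q ∘ₗ θ ∧ θ.lTensor B y = 0 ∧ p.lTensor B y = x := by
  classical
  obtain ⟨S, hS⟩ := exists_sum B M x
  let π : (N →₀ A) →ₗ[A] N := Finsupp.linearCombination A id
  have hπ : Function.Surjective π := Finsupp.linearCombination_surjective A Function.surjective_id
  let z : (B : Type u) ⊗[A] (N →₀ A) :=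
    ∑ i : {i // i ∈ S}, i.1.1 ⊗ₜ[A] Finsupp.single (φ.hom i.1.2) 1
  have hz : π.lTensor B z = 0 := by
    rw [hS, map_sum] at hx
    simpa [z, π, Finsupp.linearCombination_single] using hx
  obtain ⟨w, hw⟩ := exists_ker_tensor B π hπ z hz
  obtain ⟨T, hT⟩ := exists_sum B (ModuleCat.of A (LinearMap.ker π)) w
  let θ₀ : (({i // i ∈ S} ⊕ {j // j ∈ T}) →₀ A) →ₗ[A] (N →₀ A) :=
    Finsupp.linearCombination A
      (Sum.elim (fun i => Finsupp.single (φ.hom i.1.2) 1) (fun j => -(j.1.2 : LinearMap.ker π).1))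
  let s : Finset N :=
    (Finset.univ : Finset ({i // i ∈ S} ⊕ {j // j ∈ T})).biUnion
      (fun t => (θ₀ (Finsupp.single t 1)).support)
  let ρ : (N →₀ A) →ₗ[A] ({n // n ∈ s} →₀ A) :=
    Finsupp.lcomapDomain Subtype.val Subtype.val_injective
  let j : ({n // n ∈ s} →₀ A) →ₗ[A] (N →₀ A) := Finsupp.lmapDomain A A Subtype.val
  have hjρ : j ∘ₗ ρ ∘ₗ θ₀ = θ₀ := by
    ext t : 2
    simp only [LinearMap.coe_comp, Function.comp_apply, Finsupp.lsingle_apply]
    refine Finsupp.mapDomain_comapDomain _ Subtype.val_injective _ ?_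
    intro n hn
    exact ⟨⟨n, Finset.mem_biUnion.2 ⟨t, Finset.mem_univ _, hn⟩⟩, rfl⟩
  let p : (({i // i ∈ S} ⊕ {j // j ∈ T}) →₀ A) →ₗ[A] M :=
    Finsupp.linearCombination A (Sum.elim (fun i => i.1.2) (fun _ => 0))
  refine ⟨_, _, inferInstance, inferInstance, ρ ∘ₗ θ₀, p, π ∘ₗ j,
    (∑ i : {i // i ∈ S}, i.1.1 ⊗ₜ[A] Finsupp.single (Sum.inl i) 1) +
      ∑ k : {k // k ∈ T}, k.1.1 ⊗ₜ[A] Finsupp.single (Sum.inr k) 1, ?_, ?_, ?_⟩
  · rw [LinearMap.comp_assoc, hjρ]
    ext t : 2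
    rcases t with i | k
    · simp [p, θ₀, π]
    · have hk : π (k.1.2 : LinearMap.ker π).1 = 0 := (k.1.2 : LinearMap.ker π).2
      simp [p, θ₀, hk]
  · have h : θ₀.lTensor B ((∑ i : {i // i ∈ S}, i.1.1 ⊗ₜ[A] Finsupp.single (Sum.inl i) 1) +
        ∑ k : {k // k ∈ T}, k.1.1 ⊗ₜ[A] Finsupp.single (Sum.inr k) 1) = 0 := by
      simp only [map_add, map_sum, LinearMap.lTensor_tmul, θ₀, Finsupp.linearCombination_single,
        one_smul, Sum.elim_inl, Sum.elim_inr, TensorProduct.tmul_neg, Finset.sum_neg_distrib]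
      change z + -_ = 0
      rw [← hw, hT, map_sum, ← sub_eq_add_neg, sub_eq_zero]
      rfl
    rw [LinearMap.lTensor_comp, LinearMap.comp_apply, h, map_zero]
  · simp [p, hS]

/-- The functor attached to a map of modules. -/
noncomputable abbrev K {P P' : ModuleCat.{u + 1} A} (φ₀ : P ⟶ P') : MVF A :=
  kernel ((underline A).map φ₀)

/-- Every element of an adequate functor comes from a linearly adequate one. -/
theorem exists_lin {F : MVF A} (hF : adequate A F) (B : Alg A) (x : F.obj (pt B)) :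
    ∃ (P P' : ModuleCat.{u + 1} A) (φ₀ : P ⟶ P') (_ : Module.Finite A P) (_ : Module.Free A P)
      (_ : Module.Finite A P') (_ : Module.Free A P') (ψ : K φ₀ ⟶ F) (y : (K φ₀).obj (pt B)),
      ψ.app (pt B) y = x := by
  obtain ⟨M, N, φ, ⟨e⟩⟩ := hF
  let x₁ : (B : Type u) ⊗[A] M := (kernel.ι ((underline A).map φ)).app (pt B) (e.hom.app (pt B) x)
  obtain ⟨ι, κ, hι, hκ, θ, p, q, y, hpq, hy, hpy⟩ := exists_free_witness φ B x₁
    (kernel_condition_apply ((underline A).map φ) B (e.hom.app (pt B) x))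
  let θ' : ModuleCat.of A (ι →₀ A) ⟶ ModuleCat.of A (κ →₀ A) := ModuleCat.ofHom θ
  let ψ : K θ' ⟶ K φ := kernel.map _ _ ((underline A).map (ModuleCat.ofHom p))
    ((underline A).map (ModuleCat.ofHom q)) (by
      rw [← Functor.map_comp, ← Functor.map_comp]
      congr 1
      exact ModuleCat.hom_ext hpq.symm)
  obtain ⟨y', hy'⟩ := mem_kernel ((underline A).map θ') B (tmk _ B y) hy
  haveI := hι
  haveI := hκ
  refine ⟨_, _, θ', inferInstanceAs (Module.Finite A (ι →₀ A)), inferInstanceAs (Module.Free A (ι →₀ A)),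
    inferInstanceAs (Module.Finite A (κ →₀ A)), inferInstanceAs (Module.Free A (κ →₀ A)),
    ψ ≫ e.inv, y', ?_⟩
  have h : ψ.app (pt B) y' = e.hom.app (pt B) x := by
    apply kernel_ι_injective
    refine (congrArg (fun χ : K θ' ⟶ U A M => χ.app (pt B) y') (kernel.lift_ι _ _ _)).trans ?_
    change ((underline A).map (ModuleCat.ofHom p)).app (pt B)
      ((kernel.ι ((underline A).map θ')).app (pt B) y') = _
    rw [hy', u_app_apply]
    exact hpy
  change e.inv.app (pt B) (ψ.app (pt B) y') = x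
  rw [h]
  exact congrArg (fun χ : F ⟶ F => χ.app (pt B) x) e.hom_inv_id

/-- The standard cover by linearly adequate functors. -/
theorem exists_cofan {F : MVF A} (hF : adequate A F) :
    ∃ (ι : Type (u + 1)) (L : ι → MVF A), (∀ i, linAdequate A (L i)) ∧
      ∃ (c : Cofan L) (_ : IsColimit c) (π : c.pt ⟶ F), Epi π := by
  choose P P' φ₀ h₁ h₂ h₃ h₄ ψ y hy using fun i : Σ B : Alg A, F.obj (pt B) => exists_lin hF i.1 i.2
  refine ⟨_, fun i => K (φ₀ i), fun i => ⟨P i, P' i, φ₀ i, h₁ i, h₂ i, h₃ i, h₄ i, ⟨Iso.refl _⟩⟩,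
    colimit.cocone _, colimit.isColimit _, Sigma.desc ψ, ?_⟩
  rw [epi_iff_surjective]
  intro B x
  refine ⟨(Sigma.ι (fun i => K (φ₀ i)) ⟨B, x⟩).app (pt B) (y ⟨B, x⟩), ?_⟩
  exact (congrArg (fun χ : K (φ₀ ⟨B, x⟩) ⟶ F => χ.app (pt B) (y ⟨B, x⟩))
    (Sigma.ι_desc ψ ⟨B, x⟩)).trans (hy ⟨B, x⟩)

end Groth.Agent.H02CA.Adq
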