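import Groth.Agent.H02CA.Adeq.Univ
import Mathlib.LinearAlgebra.Prod
import Mathlib.RingTheory.Finiteness.Prod
import Mathlib.LinearAlgebra.FreeModule.Basic

/-!
# Sections of extensions of linearly adequate functors
-/

set_option autoImplicit false
set_option linter.style.haveILetI false

universe u

open CategoryTheory Opposite Limits TensorProduct

namespace Groth.Agent.H02CA.Adq

open Adeq

variable {A : Type u} [CommRing A]

/-- Decomposition of tensors with coefficients in a polynomial ring. -/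
lemma sum_coeff (R : Alg A) (M : ModuleCat.{u + 1} A) (z : (Polynomial R) ⊗[A] M) :
    ∃ s : Finset ℕ, ∀ t : Finset ℕ, s ⊆ t → ∑ k ∈ t, (Polynomial.X : Polynomial R) ^ k •
      (IsScalarTower.toAlgHom A R (Polynomial R)).toLinearMap.rTensor M
        (((Polynomial.lcoeff (R : Type u) k).restrictScalars A).rTensor M z) = z := by
  classical
  induction z using TensorProduct.induction_on with
  | zero => exact ⟨∅, fun t _ => by simp⟩
  | tmul p m =>
    refine ⟨p.support, fun t ht => ?_⟩
    simp only [LinearMap.rTensor_tmul, AlgHom.toLinearMap_apply, IsScalarTower.coe_toAlgHom',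
      TensorProduct.smul_tmul', smul_eq_mul, Polynomial.algebraMap_eq, LinearMap.restrictScalars_apply,
      Polynomial.lcoeff_apply, ← TensorProduct.sum_tmul]
    congr 1
    conv_rhs => rw [p.as_sum_support_C_mul_X_pow]
    rw [Finset.sum_subset ht (fun k _ hk => by rw [Polynomial.notMem_support_iff.1 hk, map_zero, zero_mul])]
    exact Finset.sum_congr rfl fun k _ => mul_comm _ _
  | add x y hx hy =>
    obtain ⟨s, hs⟩ := hx
    obtain ⟨s', hs'⟩ := hy
    exact ⟨s ∪ s', fun t ht => by
      simp only [map_add, smul_add, Finset.sum_add_distrib, hs t (Finset.union_subset_left ht),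
        hs' t (Finset.union_subset_right ht)]⟩

/-- The substitution `X ↦ XY` on coefficients. -/
lemma coeff_aevalTower_mul {R : Type u} [CommRing R] [Algebra A R] (k : ℕ) (r : Polynomial R)
    (α : Polynomial R →ₐ[A] Polynomial (Polynomial R))
    (hC : ∀ a : R, α (Polynomial.C a) = Polynomial.C (Polynomial.C a))
    (hX : α Polynomial.X = Polynomial.X * Polynomial.C Polynomial.X) :
    (α r).coeff k = (Polynomial.X : Polynomial R) ^ k * Polynomial.C (r.coeff k) := by
  induction r using Polynomial.induction_on' with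
  | add a b ha hb => simp only [map_add, Polynomial.coeff_add, ha, hb, mul_add]
  | monomial n a =>
    rw [← Polynomial.C_mul_X_pow_eq_monomial, map_mul, map_pow, hC, hX, mul_pow, ← map_pow,
      mul_comm (Polynomial.X ^ n) (Polynomial.C ((Polynomial.X : Polynomial R) ^ n)), ← mul_assoc,
      ← map_mul, Polynomial.coeff_C_mul, Polynomial.coeff_C_mul, Polynomial.coeff_X_pow,
      Polynomial.coeff_X_pow]
    split_ifs with h
    · subst h
      rw [mul_one, mul_one, mul_comm]
    · simp

/-- A homogeneous lift of the universal section. -/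
theorem exists_homogeneous_lift {P P' : ModuleCat.{u + 1} A} {M : ModuleCat.{u + 1} A}
    {φ₀ : P ⟶ P'} {G : MVF A} (f : U A M ⟶ G) (p : G ⟶ K φ₀) (hw : f ≫ p = 0)
    (hinj : ∀ B : Alg A, Function.Injective (f.app (pt B)))
    (hex : ∀ (B : Alg A) (z : G.obj (pt B)), p.app (pt B) z = 0 → ∃ m, f.app (pt B) m = z)
    (hsurj : ∀ B : Alg A, Function.Surjective (p.app (pt B)))
    (R : Alg A) (ℓ : (K φ₀).obj (pt R))
    (huniv : ∀ (B : Alg A) (x : (K φ₀).obj (pt B)), ∃! φ : R ⟶ B, mp (K φ₀) φ ℓ = x) :
    ∃ g : G.obj (pt R), p.app (pt R) g = ℓ ∧ ∀ σ : R ⟶ polyOf R,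
      mp (K φ₀) σ ℓ = (Polynomial.X : Polynomial R) • mp (K φ₀) (constOf R) ℓ →
      mp G σ g = (Polynomial.X : Polynomial R) • mp G (constOf R) g := by
  classical
  obtain ⟨g₀, hg₀⟩ := hsurj R ℓ
  obtain ⟨σ, hσ, -⟩ := huniv (polyOf R) ((Polynomial.X : Polynomial R) • mp (K φ₀) (constOf R) ℓ)
  have hpz : p.app (pt (polyOf R))
      (mp G σ g₀ - (Polynomial.X : Polynomial R) • mp G (constOf R) g₀) = 0 := by
    rw [map_sub, map_smul, nat_mp, nat_mp, hg₀, hσ, sub_self]
  obtain ⟨c', hc'⟩ := hex _ _ hpz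
  let co : ℕ → (R : Type u) ⊗[A] M := fun k =>
    ((Polynomial.lcoeff (R : Type u) k).restrictScalars A).rTensor M c'
  let θ : polyOf R ⟶ polyOf (polyOf R) := CommAlgCat.ofHom (Polynomial.mapAlgHom σ.hom)
  let α : polyOf R ⟶ polyOf (polyOf R) := CommAlgCat.ofHom
    (Polynomial.aevalTower ((constOf (polyOf R)).hom.comp (constOf R).hom)
      ((Polynomial.X : Polynomial (Polynomial R)) * Polynomial.C (Polynomial.X : Polynomial R)))
  let β : polyOf R ⟶ polyOf (polyOf R) := constOf (polyOf R)
  have hθC : constOf R ≫ θ = σ ≫ β := by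
    apply CommAlgCat.hom_ext
    refine AlgHom.ext fun r => ?_
    change Polynomial.mapAlgHom σ.hom (algebraMap R (Polynomial R) r) =
      algebraMap (Polynomial R) (Polynomial (Polynomial R)) (σ.hom r)
    simp [Polynomial.algebraMap_eq]
  have hαC : constOf R ≫ α = constOf R ≫ β := by
    apply CommAlgCat.hom_ext
    refine AlgHom.ext fun r => ?_
    change Polynomial.aevalTower _ _ (algebraMap R (Polynomial R) r) =
      algebraMap (Polynomial R) (Polynomial (Polynomial R)) (algebraMap R (Polynomial R) r)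
    simp [Polynomial.algebraMap_eq]
  have hθX : θ.hom (Polynomial.X : Polynomial R) = (Polynomial.X : Polynomial (Polynomial R)) :=
    Polynomial.map_X _
  have hαX : α.hom (Polynomial.X : Polynomial R) =
      (Polynomial.X : Polynomial (Polynomial R)) * β.hom (Polynomial.X : Polynomial R) :=
    Polynomial.aevalTower_X _ _
  have hσα : σ ≫ α = σ ≫ θ := by
    refine (huniv _ (mp (K φ₀) (σ ≫ θ) ℓ)).unique ?_ rfl
    rw [mp_comp, mp_comp, hσ, mp_smul, mp_smul, hθX, hαX, ← mp_comp, ← mp_comp, hθC, hαC,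
      mp_comp, mp_comp, hσ, mp_smul, smul_smul]
  have key : f.app (pt (polyOf (polyOf R))) (mp (U A M) θ c') +
      (Polynomial.X : Polynomial (Polynomial R)) •
        f.app (pt (polyOf (polyOf R))) (mp (U A M) β c') =
      f.app (pt (polyOf (polyOf R))) (mp (U A M) α c') := by
    have e : ∀ ψ : polyOf R ⟶ polyOf (polyOf R),
        f.app (pt (polyOf (polyOf R))) (mp (U A M) ψ c') =
          mp G (σ ≫ ψ) g₀ - ψ.hom (Polynomial.X : Polynomial R) • mp G (constOf R ≫ ψ) g₀ := fun ψ => by
      rw [nat_mp, hc', map_sub, mp_smul, mp_comp, mp_comp]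
    rw [e θ, e β, e α, hσα, hθC, hαC, hθX, hαX, smul_sub, smul_smul]
    abel
  have key' : mp (U A M) θ c' + (Polynomial.X : Polynomial (Polynomial R)) • mp (U A M) β c' =
      mp (U A M) α c' := by
    apply hinj (polyOf (polyOf R))
    rw [map_add, map_smul]
    exact key
  have key'' : θ.hom.toLinearMap.rTensor M c' +
      (Polynomial.X : Polynomial (Polynomial R)) • β.hom.toLinearMap.rTensor M c' =
      α.hom.toLinearMap.rTensor M c' := key'
  have hco : ∀ k, k ≠ 1 → σ.hom.toLinearMap.rTensor M (co k) =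
      (Polynomial.X : Polynomial R) ^ k • (constOf R).hom.toLinearMap.rTensor M (co k) := by
    intro k hk
    have h1 : ∀ z : (Polynomial R) ⊗[A] M,
        ((Polynomial.lcoeff (Polynomial R) k).restrictScalars A).rTensor M (θ.hom.toLinearMap.rTensor M z) =
          σ.hom.toLinearMap.rTensor M (((Polynomial.lcoeff (R : Type u) k).restrictScalars A).rTensor M z) := by
      intro z
      induction z using TensorProduct.induction_on with
      | zero => simp
      | tmul r y => simp [θ]
      | add y y' hy hy' => simp only [map_add, hy, hy']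
    have h2 : ∀ z : (Polynomial R) ⊗[A] M,
        ((Polynomial.lcoeff (Polynomial R) k).restrictScalars A).rTensor M
          ((Polynomial.X : Polynomial (Polynomial R)) • β.hom.toLinearMap.rTensor M z) = 0 := by
      intro z
      induction z using TensorProduct.induction_on with
      | zero => simp
      | tmul r y =>
        simp [β, TensorProduct.smul_tmul', Polynomial.algebraMap_eq, Polynomial.coeff_X, Ne.symm hk]
      | add y y' hy hy' => simp only [map_add, smul_add, hy, hy', add_zero]
    have h3a : ∀ r : Polynomial R, (α.hom r : Polynomial (Polynomial R)).coeff k =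
        (Polynomial.X : Polynomial R) ^ k * Polynomial.C (r.coeff k) := fun r =>
      coeff_aevalTower_mul k r α.hom (fun a => Polynomial.aevalTower_C _ _ a) (Polynomial.aevalTower_X _ _)
    have h3 : ∀ z : (Polynomial R) ⊗[A] M,
        ((Polynomial.lcoeff (Polynomial R) k).restrictScalars A).rTensor M (α.hom.toLinearMap.rTensor M z) =
          (Polynomial.X : Polynomial R) ^ k • (constOf R).hom.toLinearMap.rTensor M
            (((Polynomial.lcoeff (R : Type u) k).restrictScalars A).rTensor M z) := by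
      intro z
      induction z using TensorProduct.induction_on with
      | zero => simp
      | tmul r y =>
        simp [TensorProduct.smul_tmul', Polynomial.algebraMap_eq, h3a]
      | add y y' hy hy' => simp only [map_add, smul_add, hy, hy']
    have h := congrArg (((Polynomial.lcoeff (Polynomial R) k).restrictScalars A).rTensor M) key''
    rw [map_add, h1, h2, add_zero, h3] at h
    exact h
  obtain ⟨s, hs⟩ := sum_coeff R M c'
  let t := insert 1 s
  let hm : (U A M).obj (pt R) := tmk M R (-∑ k ∈ t.erase 1, co k)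
  let ev : polyOf R ⟶ R := CommAlgCat.ofHom ((Polynomial.aeval (1 : R)).restrictScalars A)
  have hevC : constOf R ≫ ev = 𝟙 R := by
    apply CommAlgCat.hom_ext
    refine AlgHom.ext fun r => ?_
    change Polynomial.aeval (1 : R) (algebraMap R (Polynomial R) r) = r
    simp
  have hevX : ev.hom (Polynomial.X : Polynomial R) = 1 := Polynomial.aeval_X _
  have hσev : σ ≫ ev = 𝟙 R := by
    refine (huniv R ℓ).unique ?_ (mp_id _ R ℓ)
    rw [mp_comp, hσ, mp_smul, hevX, ← mp_comp, hevC, mp_id, one_smul]
  have hsum : ∑ k ∈ t, co k = 0 := by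
    have h0 : mp (U A M) ev c' = 0 := by
      apply hinj R
      rw [nat_mp, hc', map_sub, mp_smul, ← mp_comp, ← mp_comp, hevC, hσev, hevX, one_smul, sub_self,
        map_zero]
    have h0' : ev.hom.toLinearMap.rTensor M c' = 0 := h0
    refine Eq.trans ?_ h0'
    conv_rhs => rw [← hs t (Finset.subset_insert _ _)]
    rw [map_sum]
    refine Finset.sum_congr rfl fun k _ => ?_
    refine Eq.trans ?_ (mp_smul (U A M) ev _ _).symm
    rw [map_pow, hevX, one_pow, one_smul]
    refine ((congrArg (fun h : R ⟶ R => mp (U A M) h (tmk M R (co k))) hevC).trans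
      (mp_id _ R _)).symm.trans ?_
    exact mp_comp _ _ _ _
  have hmain : c' + (mp (U A M) σ hm - (Polynomial.X : Polynomial R) • mp (U A M) (constOf R) hm) = 0 := by
    let c₀ : (Polynomial R) ⊗[A] M := c'
    change c₀ + (σ.hom.toLinearMap.rTensor M (-∑ k ∈ t.erase 1, co k) -
      (Polynomial.X : Polynomial R) •
        (constOf R).hom.toLinearMap.rTensor M (-∑ k ∈ t.erase 1, co k) : (Polynomial R) ⊗[A] M) =
          (0 : (Polynomial R) ⊗[A] M)
    have e1 : σ.hom.toLinearMap.rTensor M (-∑ k ∈ t.erase 1, co k) =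
        -∑ k ∈ t.erase 1, (Polynomial.X : Polynomial R) ^ k • (constOf R).hom.toLinearMap.rTensor M (co k) := by
      rw [map_neg, map_sum]
      exact congrArg Neg.neg (Finset.sum_congr rfl fun k hk => hco k (Finset.ne_of_mem_erase hk))
    have e2 : c₀ = (Polynomial.X : Polynomial R) ^ 1 • (constOf R).hom.toLinearMap.rTensor M (co 1) +
        ∑ k ∈ t.erase 1, (Polynomial.X : Polynomial R) ^ k • (constOf R).hom.toLinearMap.rTensor M (co k) :=
      (hs t (Finset.subset_insert _ _)).symm.trans
        (Finset.add_sum_erase t _ (Finset.mem_insert_self 1 s)).symm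
    rw [← Finset.add_sum_erase t co (Finset.mem_insert_self 1 s)] at hsum
    rw [e1, (eq_neg_of_add_eq_zero_left hsum).symm, e2, pow_one]
    abel
  refine ⟨g₀ + f.app (pt R) hm, ?_, fun σ' hσ' => ?_⟩
  · have hpf : p.app (pt R) (f.app (pt R) hm) = 0 :=
      congrArg (fun χ : U A M ⟶ K φ₀ => χ.app (pt R) hm) hw
    rw [map_add, hg₀, hpf, add_zero]
  · obtain rfl : σ' = σ := (huniv (polyOf R) _).unique hσ' hσ
    have e4 := congrArg (f.app (pt (polyOf R))) hmain
    rw [map_zero, map_add, map_sub, map_smul, hc', nat_mp, nat_mp] at e4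
    rw [map_add, map_add, smul_add, ← sub_eq_zero, ← e4]
    abel

/-- A section of an extension of a linearly adequate functor by the functor of a module. -/
theorem exists_section {P P' : ModuleCat.{u + 1} A} [Module.Finite A P] [Module.Free A P]
    [Module.Free A P'] {M : ModuleCat.{u + 1} A}
    {φ₀ : P ⟶ P'} {G : MVF A} (f : U A M ⟶ G) (p : G ⟶ K φ₀) (hw : f ≫ p = 0)
    (hinj : ∀ B : Alg A, Function.Injective (f.app (pt B)))
    (hex : ∀ (B : Alg A) (z : G.obj (pt B)), p.app (pt B) z = 0 → ∃ m, f.app (pt B) m = z)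
    (hsurj : ∀ B : Alg A, Function.Surjective (p.app (pt B))) :
    ∃ s : K φ₀ ⟶ G, s ≫ p = 𝟙 _ := by
  classical
  obtain ⟨R, ℓ, huniv⟩ := exists_universal φ₀
  obtain ⟨g, hg, hσg⟩ := exists_homogeneous_lift f p hw hinj hex hsurj R ℓ huniv
  obtain ⟨σ, hσ, -⟩ := huniv (polyOf R) ((Polynomial.X : Polynomial R) • mp (K φ₀) (constOf R) ℓ)
  choose fx hfx hfx' using fun (B : Alg A) (x : (K φ₀).obj (pt B)) => huniv B x
  let sv : ∀ B : Alg A, (K φ₀).obj (pt B) → G.obj (pt B) := fun B x => mp G (fx B x) g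
  have hp : ∀ (B : Alg A) x, p.app (pt B) (sv B x) = x := fun B x => by
    simp only [sv]
    rw [nat_mp, hg, hfx]
  have hnat : ∀ ⦃B B' : Alg A⦄ (h : B ⟶ B') x, sv B' (mp (K φ₀) h x) = mp G h (sv B x) := by
    intro B B' h x
    simp only [sv]
    rw [← hfx' B' _ (fx B x ≫ h) (by simp only [mp_comp, hfx]), mp_comp]
  have hsmul : ∀ (B : Alg A) (a : B) (x : (K φ₀).obj (pt B)), sv B (a • x) = a • sv B x := by
    intro B a x
    let τ : polyOf R ⟶ B := CommAlgCat.ofHom (Polynomial.aevalTower (fx B x).hom a)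
    have hτC : constOf R ≫ τ = fx B x := by
      apply CommAlgCat.hom_ext
      refine AlgHom.ext fun r => ?_
      change Polynomial.aevalTower _ _ (algebraMap R (Polynomial R) r) = _
      simp [Polynomial.algebraMap_eq]
    have hτX : τ.hom (Polynomial.X : Polynomial R) = a := Polynomial.aevalTower_X _ _
    simp only [sv]
    rw [← hfx' B _ (σ ≫ τ) (by
      change mp (K φ₀) (σ ≫ τ) ℓ = a • x
      rw [mp_comp, hσ, mp_smul, hτX, ← mp_comp, hτC, hfx]), mp_comp, hσg σ hσ, mp_smul, hτX, ← mp_comp, hτC]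
  haveI : Module.Finite A (ModuleCat.of A (P × P) : ModuleCat.{u + 1} A) :=
    inferInstanceAs (Module.Finite A (P × P))
  haveI : Module.Free A (ModuleCat.of A (P × P) : ModuleCat.{u + 1} A) :=
    inferInstanceAs (Module.Free A (P × P))
  haveI : Module.Free A (ModuleCat.of A (P' × P') : ModuleCat.{u + 1} A) :=
    inferInstanceAs (Module.Free A (P' × P'))
  let φ₂ : ModuleCat.of A (P × P) ⟶ ModuleCat.of A (P' × P') :=
    ModuleCat.ofHom (φ₀.hom.prodMap φ₀.hom)
  let π₁ : K φ₂ ⟶ K φ₀ := kernel.map _ _ ((underline A).map (ModuleCat.ofHom (LinearMap.fst A P P)))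
    ((underline A).map (ModuleCat.ofHom (LinearMap.fst A P' P'))) (by
      rw [← Functor.map_comp, ← Functor.map_comp]
      rfl)
  let π₂ : K φ₂ ⟶ K φ₀ := kernel.map _ _ ((underline A).map (ModuleCat.ofHom (LinearMap.snd A P P)))
    ((underline A).map (ModuleCat.ofHom (LinearMap.snd A P' P'))) (by
      rw [← Functor.map_comp, ← Functor.map_comp]
      rfl)
  let i₁ : K φ₀ ⟶ K φ₂ := kernel.map _ _ ((underline A).map (ModuleCat.ofHom (LinearMap.inl A P P)))
    ((underline A).map (ModuleCat.ofHom (LinearMap.inl A P' P'))) (by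
      rw [← Functor.map_comp, ← Functor.map_comp]
      congr 1
      ext x <;> simp [φ₂])
  let i₂ : K φ₀ ⟶ K φ₂ := kernel.map _ _ ((underline A).map (ModuleCat.ofHom (LinearMap.inr A P P)))
    ((underline A).map (ModuleCat.ofHom (LinearMap.inr A P' P'))) (by
      rw [← Functor.map_comp, ← Functor.map_comp]
      congr 1
      ext x <;> simp [φ₂])
  have hπi : i₁ ≫ π₁ = 𝟙 _ ∧ i₁ ≫ π₂ = 0 ∧ i₂ ≫ π₁ = 0 ∧ i₂ ≫ π₂ = 𝟙 _ := by
    refine ⟨?_, ?_, ?_, ?_⟩ <;>
      (rw [← cancel_mono (kernel.ι ((underline A).map φ₀))]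
       simp only [i₁, i₂, π₁, π₂, Category.assoc, kernel.lift_ι, kernel.lift_ι_assoc, Category.id_comp,
         zero_comp, ← Functor.map_comp, ← ModuleCat.ofHom_comp, LinearMap.fst_comp_inl,
         LinearMap.snd_comp_inl, LinearMap.fst_comp_inr, LinearMap.snd_comp_inr])
    all_goals first
      | (rw [show ModuleCat.ofHom (LinearMap.id : P →ₗ[A] P) = 𝟙 P from rfl,
          CategoryTheory.Functor.map_id, Category.comp_id])
      | (rw [show ModuleCat.ofHom (0 : P →ₗ[A] P) = (0 : P ⟶ P) from rfl, Functor.map_zero, comp_zero])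
  choose d hd using fun (B : Alg A) (z : (K φ₂).obj (pt B)) =>
    hex B (sv B (π₁.app (pt B) z + π₂.app (pt B) z) - sv B (π₁.app (pt B) z) - sv B (π₂.app (pt B) z)) (by
      rw [map_sub, map_sub, hp, hp, hp]
      abel)
  obtain ⟨gd, hgd⟩ := extend_homogeneous φ₂ (M := M) d
    (fun B B' h z => by
      change d B' (mp (K φ₂) h z) = mp (U A M) h (d B z)
      apply hinj B'
      rw [nat_mp, hd, hd, map_sub, map_sub, nat_mp, nat_mp, ← map_add, hnat, hnat, hnat])
    (fun B z => by
      change d (polyOf B) ((Polynomial.X : Polynomial B) • mp (K φ₂) (constOf B) z) =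
        ((Polynomial.X : Polynomial B) • mp (U A M) (constOf B) (d B z) : (U A M).obj (pt (polyOf B)))
      apply hinj (polyOf B)
      rw [map_smul, nat_mp, hd, hd, map_smul, map_smul, nat_mp, nat_mp, ← smul_add, hsmul, hsmul, hsmul,
        ← map_add, hnat, hnat, hnat, map_sub, map_sub, smul_sub, smul_sub])
  have hs0 : ∀ B : Alg A, sv B 0 = 0 := fun B => by
    have h := hsmul B 0 0
    rw [zero_smul, zero_smul] at h
    exact h
  have hadd : ∀ (B : Alg A) (x y : (K φ₀).obj (pt B)), sv B (x + y) = sv B x + sv B y := by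
    intro B x y
    have e₁ : π₁.app (pt B) (i₁.app (pt B) x) = x :=
      congrArg (fun χ : K φ₀ ⟶ K φ₀ => χ.app (pt B) x) hπi.1
    have e₂ : π₂.app (pt B) (i₁.app (pt B) x) = 0 :=
      congrArg (fun χ : K φ₀ ⟶ K φ₀ => χ.app (pt B) x) hπi.2.1
    have e₃ : π₁.app (pt B) (i₂.app (pt B) y) = 0 :=
      congrArg (fun χ : K φ₀ ⟶ K φ₀ => χ.app (pt B) y) hπi.2.2.1
    have e₄ : π₂.app (pt B) (i₂.app (pt B) y) = y :=
      congrArg (fun χ : K φ₀ ⟶ K φ₀ => χ.app (pt B) y) hπi.2.2.2
    have d₁ : f.app (pt B) (d B (i₁.app (pt B) x)) = 0 := by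
      rw [hd, e₁, e₂, hs0, add_zero, sub_self, sub_zero]
    have d₂ : f.app (pt B) (d B (i₂.app (pt B) y)) = 0 := by
      rw [hd, e₃, e₄, hs0, zero_add, sub_zero, sub_self]
    have hdl : d B (i₁.app (pt B) x + i₂.app (pt B) y) =
        (d B (i₁.app (pt B) x) + d B (i₂.app (pt B) y) : (U A M).obj (pt B)) := by
      rw [hgd, hgd, hgd, map_add]
      exact map_add _ _ _
    have h := congrArg (f.app (pt B)) hdl
    rw [hd, map_add, map_add, e₁, e₂, e₃, e₄, add_zero, zero_add, map_add, d₁, d₂, add_zero] at h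
    rwa [sub_sub, sub_eq_zero] at h
  refine ⟨{ app := fun X => ModuleCat.ofHom
              { toFun := sv X.unop.unop
                map_add' := hadd X.unop.unop
                map_smul' := hsmul X.unop.unop }
            naturality := fun {X Y} h => ?_ }, hom_ext fun B x => hp B x⟩
  ext x
  exact hnat h.unop.unop x

end Groth.Agent.H02CA.Adq
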